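import Cfsg.Agent.H609.T5.MFive
import Cfsg.Agent.BpSpor.MBigEleven

/-!
# S4114, row M: the centre of a Sylow 5-subgroup of the Monster (helper979)
-/

set_option autoImplicit false
set_option maxRecDepth 100000

namespace Cfsg.Agent.H979.Ccp.MFiveC

open Subgroup Cfsg
open Cfsg.Agent.MonsterU Cfsg.Agent.MFive Cfsg.Agent.BpTab Cfsg.Agent.BpSpor.M5 Cfsg.Agent.H847
open Cfsg.Agent.LThreeMB (fr XX Zx zD self toXX toCC be exists_XX_equiv)
open Cfsg.Agent.MonsterU.Ch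
open Cfsg.Agent.MonsterU.Lam2 (L2)
open Cfsg.Agent.H609.T5 Cfsg.Agent.H609.T5.Five
open Cfsg.Spor (Co1)

universe u v

theorem gen {D : Type u} {A : Type v} [Group D] [Finite D] [Group A] [Finite A] (ρ : D →* A)
    (hρ : Function.Surjective ρ) (S : Subgroup D) (hSn : S.Normal) (hSp : IsPGroup 5 S) (hS : Nat.card S = 5 ^ 7)
    (hSρ : ∀ s ∈ S, ρ s = 1) (hcA : 5 ^ 2 ∣ Nat.card A) (h10 : ¬ 5 ^ 10 ∣ Nat.card D)
    (hcent : ∀ g ∈ centralizer (S : Set D), ρ g = 1) {x : D}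
    (hctr : ∀ s ∈ S, (∀ a ∈ S, a * s = s * a) → s ∈ zpowers x) (T : Sylow 5 D) :
    5 ^ 9 ∣ Nat.card D ∧ ∀ t ∈ (T : Subgroup D), (∀ r ∈ (T : Subgroup D), r * t = t * r) → t ∈ zpowers x := by
  have h5 : Fact (Nat.Prime 5) := ⟨Nat.prime_five⟩
  have hcard : Nat.card D = Nat.card A * Nat.card ρ.ker := by
    rw [Subgroup.card_eq_card_quotient_mul_card_subgroup ρ.ker,
      Nat.card_congr (QuotientGroup.quotientKerEquivOfSurjective ρ hρ).toEquiv]
  have hSk : S ≤ ρ.ker := fun s hs => MonoidHom.mem_ker.2 (hSρ s hs)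
  have hST : S ≤ (T : Subgroup D) := by
    obtain ⟨T', hT'⟩ := hSp.exists_le_sylow
    obtain ⟨g, hg⟩ := MulAction.exists_smul_eq D T' T
    intro s hs
    rw [← hg]
    refine ⟨g⁻¹ * s * g, ?_, ?_⟩
    · have h1 := hSn.conj_mem s hs g⁻¹
      rw [inv_inv] at h1
      exact hT' h1
    · show g * (g⁻¹ * s * g) * g⁻¹ = s
      group
  have hK : (T : Subgroup D) ⊓ ρ.ker = S := by
    symm
    apply eq_of_le_of_card_ge (le_inf hST hSk)
    have h1 : IsPGroup 5 ↥((T : Subgroup D) ⊓ ρ.ker : Subgroup D) := T.isPGroup'.to_le inf_le_left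
    obtain ⟨m, hm⟩ := IsPGroup.iff_card.1 h1
    have h2 : Nat.card ↥((T : Subgroup D) ⊓ ρ.ker : Subgroup D) ∣ Nat.card ρ.ker := card_dvd_of_le inf_le_right
    rw [hm] at h2
    rw [hm, hS]
    refine Nat.pow_le_pow_right (by norm_num) ?_
    by_contra h3
    push Not at h3
    apply h10
    rw [hcard, show 10 = 2 + 8 from rfl, pow_add]
    exact mul_dvd_mul hcA ((pow_dvd_pow 5 h3).trans h2)
  refine ⟨?_, fun t ht htc => ?_⟩
  · rw [hcard, show 9 = 2 + 7 from rfl, pow_add]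
    exact mul_dvd_mul hcA (hS ▸ card_dvd_of_le hSk)
  · have h1 : t ∈ centralizer (S : Set D) := mem_centralizer_iff.2 fun s hs => htc s (hST hs)
    have h2 : t ∈ S := by
      rw [← hK]
      exact ⟨ht, MonoidHom.mem_ker.2 (hcent t h1)⟩
    exact hctr t h2 fun a ha => htc a (hST ha)

section

variable {G : Type u} [Group G] {Q : Subgroup G} {z : G} {eta : G → L2}
  {pi : Subgroup.centralizer ({z} : Set G) →* Co1}

/-- **The centre of a Sylow 5-subgroup.** -/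
theorem five_of [Finite G] (H : Inp Q z eta pi) : ∃ (T : Sylow 5 G) (w : G),
    (∀ t ∈ (T : Subgroup G), (∀ r ∈ (T : Subgroup G), r * t = t * r) → t ∈ zpowers w) ∧
      ¬ Group.IsSolvable ↥(centralizer ({w} : Set G)) := by
  have h5 : Fact (Nat.Prime 5) := ⟨Nat.prime_five⟩
  obtain ⟨P, x, a, b, c, u, L⟩ := exists_lifts H.h
  obtain ⟨f1, f2, f3, ⟨N, ρ, S, hR⟩, hcon⟩ := exists_local H L.ox L.fx
  have hfA : Finite (XX (pi x)) := Finite.of_surjective ρ hR.surj
  have hna := nonab H L hR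
  have hcA := JTwoOdd.card_of hR.iso
  obtain ⟨T⟩ : Nonempty (Sylow 5 ↥(centralizer ({(x : G)} : Set G))) := inferInstance
  obtain ⟨h9, hT⟩ := gen ρ hR.surj S hR.Sn hR.Sp hR.cS (fun s hs => hR.ρN s (hR.SN hs)) (by rw [hcA]; norm_num)
    (fun h10 => H.card (h10.trans (centralizer ({(x : G)} : Set G)).card_subgroup_dvd_card)) hR.cent
    (fun s hs hsc => hR.center_le hna hs hsc) T
  have hT9 : 5 ^ 9 ∣ Nat.card ↥(T : Subgroup ↥(centralizer ({(x : G)} : Set G))) :=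
    T.pow_dvd_card_of_pow_dvd_card h9
  set ι := (centralizer ({(x : G)} : Set G)).subtype with hι
  have hTp' : IsPGroup 5 ↥((T : Subgroup ↥(centralizer ({(x : G)} : Set G))).map ι) := T.isPGroup'.map ι
  have hT9' : 5 ^ 9 ∣ Nat.card ↥((T : Subgroup ↥(centralizer ({(x : G)} : Set G))).map ι) := by
    rw [card_map_of_injective (Subgroup.subtype_injective _)]
    exact hT9
  have hidx : ¬ 5 ∣ ((T : Subgroup ↥(centralizer ({(x : G)} : Set G))).map ι).index := by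
    intro h5
    apply H.card
    rw [← ((T : Subgroup ↥(centralizer ({(x : G)} : Set G))).map ι).card_mul_index, pow_succ]
    exact mul_dvd_mul hT9' h5
  refine ⟨hTp'.toSylow hidx, (x : G), ?_, ?_⟩
  · intro t ht htc
    rw [hTp'.toSylow_coe hidx] at ht htc
    obtain ⟨t', ht', rfl⟩ := ht
    obtain ⟨i, hi⟩ := hT t' ht' fun r hr => by
      have h1 := htc _ ⟨r, hr, rfl⟩
      exact Subtype.ext h1
    refine ⟨i, ?_⟩
    exact congrArg Subtype.val hi
  · intro hsol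
    exact f2 (Group.isSolvable_of_surjective hR.surj)

end

open Cfsg.Agent.MonsterX Cfsg.Agent.MonsterX.InstData Cfsg.Agent.MonsterX.MainPack in
/-- **The centre of a Sylow 5-subgroup of the Monster.** -/
theorem five' : ∃ (T : Sylow 5 ↥InstData.M.G) (w : ↥InstData.M.G), (∀ t ∈ (T : Subgroup ↥InstData.M.G),
    (∀ r ∈ (T : Subgroup ↥InstData.M.G), r * t = t * r) → t ∈ Subgroup.zpowers w) ∧
      ¬ Group.IsSolvable ↥(Subgroup.centralizer ({w} : Set ↥InstData.M.G)) := by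
  have hfin := MFive.Row.finite_model
  exact five_of ⟨Cfsg.Agent.LThreeMB.KChart.chart KDone.lft MFive.Row.hc, BpSpor.M5.trNe,
    CpAutBFive.Closed.coFive H546.MFiveFull.hJ, H546.MFiveFull.hJ, CpAutBFive.Closed.hnEight, BpSpor.M5.hasPair,
    BpSpor.M5.exists_k BpSpor.M5.hA, H546.MFiveFull.card_model, fun r hr => CpAutBFive.EvenRow.cases hr⟩

/-- **The centre of a Sylow 5-subgroup of the Monster.** -/
theorem five : ∃ (T : Sylow 5 Cfsg.Agent.BpSpor.MBigModel.MG) (w : Cfsg.Agent.BpSpor.MBigModel.MG),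
    (∀ t ∈ (T : Subgroup Cfsg.Agent.BpSpor.MBigModel.MG),
      (∀ r ∈ (T : Subgroup Cfsg.Agent.BpSpor.MBigModel.MG), r * t = t * r) → t ∈ Subgroup.zpowers w) ∧
      ¬ Group.IsSolvable ↥(Subgroup.centralizer ({w} : Set Cfsg.Agent.BpSpor.MBigModel.MG)) := five'

end Cfsg.Agent.H979.Ccp.MFiveC
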