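import Cfsg.Agent.H979.Ccp.Cube

/-!
# Abelian Sylow subgroups of order `p ^ 3` (helper979)
-/

set_option autoImplicit false
set_option linter.unusedSectionVars false

namespace Cfsg.Agent.H979.Ccp

open Subgroup Cfsg Cfsg.Agent.H520
open scoped Pointwise

universe u

variable {G : Type u} [Group G] [Finite G] {α : MulAut G}

/-- the automorphism induced on a subgroup -/
theorem nmh_apply (R : Subgroup G) (x : ↥(normalizer (R : Set G))) (r : ↥R) :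
    ((R.normalizerMonoidHom x r : ↥R) : G) = x.1 * r.1 * x.1⁻¹ := rfl

/-- **`α` normalises an abelian Sylow `p`-subgroup of order `p ^ 3`, and is a 3-element modulo its centralizer.** -/
theorem false_of_cube (h : Cfg α) (hodd : Odd (Nat.card (fixA α))) {p : ℕ} [hp : Fact p.Prime] (hp2 : p ≠ 2)
    (R : Subgroup G) (hR : ∀ m ∈ R, α m ∈ R) (hRab : ∀ a ∈ R, ∀ b ∈ R, a * b = b * a) (hRcard : Nat.card R = p ^ 3)
    {u : G} {z : MulAut G} (hz : z ∈ zpowers α) (hu : MulAut.conj u ∈ zpowers α) (huR : u ∈ R)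
    (hα : α = z * MulAut.conj u) (hz3 : ∃ k, orderOf z = 3 ^ k)
    (Q : Subgroup G) (hQ : IsPGroup 2 Q) (hQR : ∀ x ∈ Q, ∀ r ∈ R, x * r * x⁻¹ ∈ R) {k l r : G} (hk : k ∈ Q) (hl : l ∈ Q)
    (hr : r ∈ R) (hkl : k * l * r * (k * l)⁻¹ ≠ l * k * r * (l * k)⁻¹) : False := by
  classical
  have h2 : Fact (Nat.Prime 2) := ⟨Nat.prime_two⟩
  have h3 : Fact (Nat.Prime 3) := ⟨Nat.prime_three⟩
  have hcb := h.center_bot
  have hRp : IsPGroup p R := IsPGroup.of_card hRcard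
  have hXi := normalizer_inv hR
  have hXt : normalizer (R : Set G) ≠ ⊤ := by
    intro h1
    have h2 : R.Normal := normalizer_eq_top_iff.1 h1
    have := h.sim
    rcases h2.eq_bot_or_eq_top with h3 | h3
    · rw [h3, card_bot] at hRcard
      exact absurd hRcard.symm (Nat.one_lt_pow (by norm_num) hp.out.one_lt).ne'
    · rw [h3] at hRp
      exact not_pgroup h (hRp.of_equiv topEquiv)
  have hXs := solvable_of_inv h hodd hXt hXi
  have hXccp := h.ccp.res _ hXi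
  set X := normalizer (R : Set G) with hX
  let θ : ↥X →* MulAut ↥R := R.normalizerMonoidHom
  have hθ : ∀ (x : ↥X) (r : ↥R), ((θ x r : ↥R) : G) = x.1 * r.1 * x.1⁻¹ := fun x r => rfl
  obtain ⟨ρ, hρdef⟩ : ∃ ρ, ρ = resA α R hR := ⟨_, rfl⟩
  have hρ : ∀ r : ↥R, ((ρ r : ↥R) : G) = α r.1 := by
    intro r
    rw [hρdef, resA_coe]
  obtain ⟨ξ, hξdef⟩ : ∃ ξ, ξ = resA α X hXi := ⟨_, rfl⟩
  have hξ : ∀ x : ↥X, ((ξ x : ↥X) : G) = α x.1 := by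
    intro x
    rw [hξdef, resA_coe]
  have hξccp : CCP ξ := by rw [hξdef]; exact hXccp
  have hθρ : ∀ x : ↥X, MulAut.conj ρ (θ x) = θ (ξ x) := by
    intro x
    ext r
    rw [hθ, hξ, MulAut.conj_apply, MulAut.mul_apply, MulAut.mul_apply, hρ, hθ, map_mul, map_mul, map_inv]
    congr 2
    rw [← hρ, MulAut.apply_inv_self]
  have hθρn : ∀ (n : ℕ) (x : ↥X), (MulAut.conj ρ ^ n) (θ x) = θ ((ξ ^ n) x) := by
    intro n
    induction n with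
    | zero => intro x; rfl
    | succ n ih =>
      intro x
      rw [pow_succ', MulAut.mul_apply, ih, hθρ, ← MulAut.mul_apply, ← pow_succ']
  -- the power of 3
  obtain ⟨k3, hk3⟩ := hz3
  have hθ3 : ∀ x : ↥X, (MulAut.conj ρ ^ 3 ^ k3) (θ x) = θ x := by
    intro x
    rw [hθρn]
    have hcomm : Commute z (MulAut.conj u) := Cfg.comm_zpowers hz hu
    have h4 : α ^ 3 ^ k3 = MulAut.conj (u ^ 3 ^ k3) := by
      rw [hα, hcomm.mul_pow, ← hk3, pow_orderOf_eq_one, one_mul, hk3, map_pow]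
    have h5 : (((ξ ^ 3 ^ k3) x : ↥X) : G) = u ^ 3 ^ k3 * x.1 * (u ^ 3 ^ k3)⁻¹ := by
      rw [hξdef, resA_pow_coe, h4, MulAut.conj_apply]
    have h6 : u ^ 3 ^ k3 ∈ R := pow_mem huR _
    ext r
    rw [hθ, hθ, h5]
    have h7 : (u ^ 3 ^ k3)⁻¹ * r.1 * u ^ 3 ^ k3 = r.1 := by
      rw [hRab _ (inv_mem h6) _ r.2]
      group
    have h8 : x.1 * r.1 * x.1⁻¹ ∈ R := by rw [← hθ]; exact (θ x r).2
    calc u ^ 3 ^ k3 * x.1 * (u ^ 3 ^ k3)⁻¹ * r.1 * (u ^ 3 ^ k3 * x.1 * (u ^ 3 ^ k3)⁻¹)⁻¹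
        = u ^ 3 ^ k3 * (x.1 * ((u ^ 3 ^ k3)⁻¹ * r.1 * u ^ 3 ^ k3) * x.1⁻¹) * (u ^ 3 ^ k3)⁻¹ := by group
      _ = u ^ 3 ^ k3 * (x.1 * r.1 * x.1⁻¹) * (u ^ 3 ^ k3)⁻¹ := by rw [h7]
      _ = x.1 * r.1 * x.1⁻¹ := by rw [hRab _ h6 _ h8]; group
  -- the group of induced automorphisms
  obtain ⟨A, hA⟩ : ∃ A, A = θ.range := ⟨_, rfl⟩
  have hθA : ∀ x : ↥X, θ x ∈ A := fun x => hA ▸ ⟨x, rfl⟩
  have hAθ : ∀ a ∈ A, ∃ x : ↥X, θ x = a := fun a ha => (hA ▸ ha : a ∈ θ.range)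
  have hAi : ∀ a ∈ A, MulAut.conj ρ a ∈ A := by
    intro a ha
    obtain ⟨x, rfl⟩ := hAθ a ha
    rw [hθρ]
    exact hθA _
  have hfinA : Finite (MulAut ↥R) := inferInstance
  obtain ⟨γ, hγdef⟩ : ∃ γ, γ = resA (MulAut.conj ρ) A hAi := ⟨_, rfl⟩
  have hγ : ∀ a : ↥A, ((γ a : ↥A) : MulAut ↥R) = MulAut.conj ρ a.1 := by
    intro a
    rw [hγdef, resA_coe]
  have hγθ : ∀ x : ↥X, γ ⟨θ x, hθA x⟩ = ⟨θ (ξ x), hθA _⟩ := by
    intro x
    apply Subtype.ext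
    rw [hγ, hθρ]
  have hγccp : CCP γ := by
    rintro ⟨a, ha⟩
    obtain ⟨x, rfl⟩ := hAθ a ha
    obtain ⟨c, g, hc, hx⟩ := hξccp x
    refine ⟨⟨θ c, hθA c⟩, ⟨θ g, hθA g⟩, ?_, ?_⟩
    · rw [hγθ, hc]
    · rw [hγθ]
      apply Subtype.ext
      show θ x = θ c * ((θ g)⁻¹ * θ (ξ g))
      conv_lhs => rw [hx]
      rw [map_mul, map_mul, map_inv]
  have hγo : orderOf γ ∣ 3 ^ k3 := by
    apply orderOf_dvd_of_pow_eq_one
    ext ⟨a, ha⟩ : 1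
    obtain ⟨x, rfl⟩ := hAθ a ha
    apply Subtype.ext
    rw [hγdef, resA_pow_coe]
    exact hθ3 x
  have hAs : Group.IsSolvable ↥A := by
    subst hA
    exact Group.isSolvable_of_surjective (f := θ.rangeRestrict) θ.rangeRestrict_surjective
  have hprime3 : ∀ s : ℕ, s.Prime → s ∣ orderOf γ → s = 3 := fun s hs hd =>
    (Nat.prime_dvd_prime_iff_eq hs Nat.prime_three).1 (hs.dvd_of_dvd_pow (hd.trans hγo))
  have h2γ : ¬ 2 ∣ orderOf γ := fun hd => absurd (hprime3 2 Nat.prime_two hd) (by norm_num)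
  obtain ⟨P, hP⟩ := exists_sylow_inv2 h.zst (q := 2) (Nat.card A) ↥A γ le_rfl hAs hγccp h2γ (by
    intro s p hs hp hds hdp _ _ hps
    exact absurd ((hprime3 p hp hdp).trans (hprime3 s hs hds).symm) hps)
  -- its elements commute
  have hPc : ∀ a b : ↥A, a ∈ (P : Subgroup A) → b ∈ (P : Subgroup A) → a * b = b * a := by
    have h4 := comm_of_cube (R := ↥R) hp2 (fun a b => Subtype.ext (hRab a a.2 b b.2)) hRcard
      (P := (P : Subgroup A).map A.subtype) (P.isPGroup'.map _) (ρ := ρ) ?_ ⟨k3, ?_⟩ ?_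
    · intro a b ha hb
      apply Subtype.ext
      exact h4 a.1 ⟨a, ha, rfl⟩ b.1 ⟨b, hb, rfl⟩
    · rintro _ ⟨a, ha, rfl⟩
      refine ⟨γ a, hP a ha, ?_⟩
      show ((γ a : ↥A) : MulAut ↥R) = _
      rw [hγ]
      rfl
    · rintro _ ⟨a, ha, rfl⟩
      obtain ⟨x, hx⟩ := hAθ a.1 a.2
      show (MulAut.conj ρ ^ 3 ^ k3) a.1 = a.1
      rw [← hx, hθ3]
    · rintro _ ⟨a, ha, rfl⟩ hfix
      have hfix' : γ a = a := by
        apply Subtype.ext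
        rw [hγ]
        exact hfix
      obtain ⟨x, hx⟩ := hAθ a.1 a.2
      obtain ⟨c, g, hc, hx'⟩ := hξccp x
      have e1 : a = ⟨θ x, hθA x⟩ := Subtype.ext hx.symm
      have e2 : (⟨θ c, hθA c⟩ : ↥A) * ((⟨θ g, hθA g⟩ : ↥A)⁻¹ * γ ⟨θ g, hθA g⟩) = a * (1⁻¹ * γ 1) := by
        rw [hγθ, map_one, inv_one, mul_one, mul_one, e1]
        apply Subtype.ext
        show θ c * ((θ g)⁻¹ * θ (ξ g)) = θ x
        conv_rhs => rw [hx']
        rw [map_mul, map_mul, map_inv]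
      have e3 : (⟨θ c, hθA c⟩ : ↥A) = a := hγccp.uniq (by rw [hγθ, hc]) hfix' e2
      -- `c` has odd order
      have hcα : α c.1 = c.1 := by
        rw [← hξ, hc]
      have h5 : Odd (orderOf c) := by
        have h6 : orderOf (⟨c.1, hcα⟩ : ↥(fixA α)) = orderOf c.1 := Subgroup.orderOf_mk _ _
        have h7 : orderOf c.1 = orderOf c := Subgroup.orderOf_coe c
        rw [← h7, ← h6]
        exact hodd.of_dvd_nat (orderOf_dvd_natCard _)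
      have h6 : orderOf a ∣ orderOf c := by
        rw [← e3, Subgroup.orderOf_mk]
        exact orderOf_map_dvd θ c
      have h7 : Odd (orderOf a) := h5.of_dvd_nat h6
      obtain ⟨n, hn⟩ := P.isPGroup' ⟨a, ha⟩
      have h8 : a ^ 2 ^ n = 1 := congrArg Subtype.val hn
      have h9 := orderOf_dvd_of_pow_eq_one h8
      have h10 : orderOf a = 1 := Nat.Coprime.eq_one_of_dvd (Nat.Coprime.pow_right _ (Nat.coprime_two_right.2 h7)) h9
      rw [orderOf_eq_one_iff] at h10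
      rw [h10]
      rfl
  -- the 2-group
  have hQX : Q ≤ X := by
    intro x hx
    rw [hX, mem_normalizer_iff]
    intro r
    refine ⟨hQR x hx r, fun h4 => ?_⟩
    have h5 := hQR x⁻¹ (inv_mem hx) _ h4
    have e : x⁻¹ * (x * r * x⁻¹) * x⁻¹⁻¹ = r := by group
    rwa [e] at h5
  have hinc : ∀ x : ↥Q, (⟨x.1, hQX x.2⟩ : ↥X) = inclusion hQX x := fun x => rfl
  let φ : ↥Q →* ↥A := (θ.comp (inclusion hQX)).codRestrict A fun x => hθA _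
  have hQ' : IsPGroup 2 φ.range := by
    rintro ⟨_, x, rfl⟩
    obtain ⟨n, hn⟩ := hQ x
    refine ⟨n, Subtype.ext ?_⟩
    show (φ x) ^ 2 ^ n = 1
    rw [← map_pow, hn, map_one]
  obtain ⟨S, hS⟩ := hQ'.exists_le_sylow
  obtain ⟨g, hg⟩ := MulAction.exists_smul_eq ↥A S P
  have hmem : ∀ a ∈ (S : Subgroup A), g * a * g⁻¹ ∈ (P : Subgroup A) := by
    intro a ha
    rw [← hg]
    exact ⟨a, ha, rfl⟩
  have h4 := hPc _ _ (hmem _ (hS ⟨⟨k, hk⟩, rfl⟩)) (hmem _ (hS ⟨⟨l, hl⟩, rfl⟩))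
  have h5 : φ ⟨k, hk⟩ * φ ⟨l, hl⟩ = φ ⟨l, hl⟩ * φ ⟨k, hk⟩ := by
    have h6 : g * (φ ⟨k, hk⟩ * φ ⟨l, hl⟩) * g⁻¹ = g * (φ ⟨l, hl⟩ * φ ⟨k, hk⟩) * g⁻¹ := by
      calc g * (φ ⟨k, hk⟩ * φ ⟨l, hl⟩) * g⁻¹ = g * φ ⟨k, hk⟩ * g⁻¹ * (g * φ ⟨l, hl⟩ * g⁻¹) := by group
        _ = g * φ ⟨l, hl⟩ * g⁻¹ * (g * φ ⟨k, hk⟩ * g⁻¹) := h4
        _ = _ := by group
    exact mul_left_cancel (mul_right_cancel h6)
  apply hkl
  have h6 := congrArg (fun a : ↥A => ((a.1 ⟨r, hr⟩ : ↥R) : G)) h5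
  have h7 : k * (l * r * l⁻¹) * k⁻¹ = l * (k * r * k⁻¹) * l⁻¹ := h6
  calc k * l * r * (k * l)⁻¹ = k * (l * r * l⁻¹) * k⁻¹ := by group
    _ = l * (k * r * k⁻¹) * l⁻¹ := h7
    _ = l * k * r * (l * k)⁻¹ := by group

end Cfsg.Agent.H979.Ccp
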