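import Cfsg.Agent.H131.T5M13
import Cfsg.Agent.H961.Rad2M
import Cfsg.Agent.H497.Stein.Eng
import Cfsg.Agent.H979.Ccp.Cube2

/-!
# The Monster, `p = 13` (helper979)

* `moved_thirteen` : if the Sylow 13-subgroups are not abelian, every element of order 13 is conjugate to a different
  power of itself;
* `exists_cube` : a Sylow 13-subgroup `R`, a 2-group `Q` normalising it with a commutator not centralising `R`.
-/

set_option autoImplicit false
set_option maxRecDepth 100000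

namespace Cfsg.Agent.H979.Ccp.MThirteen

open Subgroup Cfsg Cfsg.Agent.H131.T5M13 Cfsg.Agent.H497.Stein
open Cfsg.Agent.MonsterX Cfsg.Agent.MonsterX.InstData Cfsg.Agent.MonsterX.MainPack Cfsg.Agent.MonsterU
open Cfsg.Agent.MonsterP Cfsg.Agent.MonsterN
open Cfsg.Agent.MonsterX.MainBasic Cfsg.Agent.MonsterX.MainSimple Cfsg.Agent.MonsterX.Model

/-- **Lifting** through a central kernel of exponent 2. -/
theorem movedAt_lift {C B : Type*} [Group C] [Group B] (f : C →* B) (hf : Function.Surjective f)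
    (hk : ∀ c ∈ f.ker, (∀ g : C, g * c = c * g) ∧ c ^ 2 = 1) {y : C} (hy : orderOf y = 13) (h : MovedAt (f y)) :
    MovedAt y := by
  obtain ⟨g, j, h1, h2⟩ := h
  obtain ⟨g, rfl⟩ := hf g
  refine ⟨g, j, ?_, fun h3 => h2 (by rw [← map_pow, h3])⟩
  obtain ⟨c, hc⟩ : ∃ c, c = (y ^ j)⁻¹ * (g * y * g⁻¹) := ⟨_, rfl⟩
  have hck : c ∈ f.ker := by
    rw [MonoidHom.mem_ker, hc, map_mul, map_inv, map_mul, map_mul, map_inv, map_pow, h1, inv_mul_cancel]
  obtain ⟨hcc, hc2⟩ := hk c hck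
  have e1 : g * y * g⁻¹ = y ^ j * c := by rw [hc]; group
  have hy13 : y ^ 13 = 1 := by rw [← hy, pow_orderOf_eq_one]
  have e2 : (g * y * g⁻¹) ^ 14 = g * y * g⁻¹ := by
    rw [conj_pow, pow_succ, hy13, one_mul]
  have hcomm : Commute (y ^ j) c := hcc (y ^ j)
  have e3 : (y ^ j * c) ^ 14 = y ^ j := by
    rw [hcomm.mul_pow, show c ^ 14 = 1 by rw [show (14 : ℕ) = 2 * 7 by norm_num, pow_mul, hc2, one_pow], mul_one,
      ← pow_mul, mul_comm j 14, pow_mul, pow_succ y 13, hy13, one_mul]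
  rw [← e2, e1, e3]

/-- elements of order 13 commuting with the `2A`-involution -/
theorem movedAt_t {y : ↥InstData.M.G} (hy : orderOf y = 13) (hyt : y * KDone.K.ι KLinkInst.x₀ = KDone.K.ι KLinkInst.x₀ * y) :
    MovedAt y := by
  have hfin : Finite ↥InstData.M.G := MThirteen.Row.finite
  have h0 : IsB Spor.BabyMonster := S1704.result
  have := h0.1
  have := CTwoTab.BInst.finite_B
  obtain ⟨⟨h1, -, ⟨e⟩⟩, -⟩ := ModelB.fieldsKS LitFin.all KDone.lnk KDone.lft (NodesGrp.prel LitFin.H)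
    (NodesNe.ne LitFin.H) LitFin.conj_ten Cfsg.Agent.S1704.result KDone.lnk.x₀_mem
  let C := centralizer ({KDone.K.ι KLinkInst.x₀} : Set ↥InstData.M.G)
  let y' : ↥C := ⟨y, mem_centralizer_singleton_iff.2 hyt⟩
  let f : ↥C →* Spor.BabyMonster := e.toMonoidHom.comp (QuotientGroup.mk' (center ↥C))
  have hf : Function.Surjective f := e.surjective.comp (QuotientGroup.mk'_surjective _)
  have hk : f.ker = center ↥C := by
    ext c
    rw [MonoidHom.mem_ker]
    constructor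
    · intro h5
      have h6 : e (QuotientGroup.mk' _ c) = e 1 := by
        rw [map_one]
        exact h5
      exact (QuotientGroup.eq_one_iff c).1 (e.injective h6)
    · intro h5
      have h6 : (QuotientGroup.mk' (center ↥C) c) = 1 := (QuotientGroup.eq_one_iff c).2 h5
      show e (QuotientGroup.mk' (center ↥C) c) = 1
      rw [h6, map_one]
  have hy' : orderOf y' = 13 := by rw [← hy]; exact Subgroup.orderOf_mk _ _
  have hB2 : ¬ 13 ^ 2 ∣ Nat.card Spor.BabyMonster := by rw [h0.2]; norm_num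
  have hna : ¬ ∀ a b : Spor.BabyMonster, a * b = b * a := not_comm_of_card h0.1 (by rw [h0.2]; norm_num)
  have hmv := moved_of_not_sq hna (p := 13) (by norm_num) hB2
  have hker : ∀ c ∈ f.ker, (∀ g : ↥C, g * c = c * g) ∧ c ^ 2 = 1 := by
    intro c hc
    rw [hk] at hc
    refine ⟨fun g => mem_center_iff.1 hc g, ?_⟩
    have h7 : (⟨c, hc⟩ : center ↥C) ^ Nat.card ↥(center ↥C) = 1 := pow_card_eq_one'
    have h8 : Nat.card ↥(center ↥C) = 2 := h1
    rw [h8] at h7
    exact congrArg Subtype.val h7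
  have h13 : Fact (Nat.Prime 13) := ⟨by norm_num⟩
  have hfy : orderOf (f y') = 13 := by
    have h9 : orderOf (f y') ∣ 13 := by rw [← hy']; exact orderOf_map_dvd f y'
    rcases (Nat.dvd_prime (by norm_num : Nat.Prime 13)).1 h9 with h10 | h10
    · rw [orderOf_eq_one_iff] at h10
      have h11 := (hker y' (MonoidHom.mem_ker.2 h10)).2
      have h12 := orderOf_dvd_of_pow_eq_one h11
      rw [hy'] at h12
      norm_num at h12
    · exact h10
  exact (movedAt_lift f hf hker hy' (hmv _ hfy)).map C.subtype C.subtype_injective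

/-- powers -/
theorem movedAt_pow {G : Type*} [Group G] [Finite G] {y : G} (h : MovedAt y) {k : ℤ} (hy : orderOf y = 13)
    (hk : orderOf (y ^ k) = 13) : MovedAt (y ^ k) := by
  obtain ⟨g, j, h1, h2⟩ := h
  refine ⟨g, j, ?_, ?_⟩
  · rw [← conj_zpow, h1, ← zpow_natCast, ← zpow_natCast, ← zpow_mul, ← zpow_mul, mul_comm]
  · intro h3
    apply h2
    -- `y = (y ^ k) ^ i`
    have h4 : y ∈ zpowers (y ^ k) := by
      have h5 : zpowers (y ^ k) = zpowers y := by
        apply Subgroup.eq_of_le_of_card_ge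
        · rw [zpowers_le]
          exact ⟨k, rfl⟩
        · rw [Nat.card_zpowers, Nat.card_zpowers, hy, hk]
      rw [h5]
      exact mem_zpowers y
    obtain ⟨i, hi⟩ := h4
    have hi' : (y ^ k) ^ i = y := hi
    rw [← hi', ← zpow_natCast, ← zpow_mul, mul_comm i, zpow_mul, zpow_natCast, h3]

section model

open Cfsg.Agent.H794.MonLift Cfsg.Agent.H794.MonThirteen
open Cfsg.Agent.LThreeMB (fr KChart.Cent KChart.pi KChart.chart)
open Cfsg.Agent.MonsterU.Ch
open Cfsg.Agent.MonsterU.Lam2 (L2)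
open Cfsg.Spor (Co1)

/-- **the configuration in the Monster** (the proof of `H131.T5M13.model_D`, with the elements) -/
theorem model_D' : ∃ (x : ↥InstData.M.G) (Q : Subgroup ↥InstData.M.G),
    D x KDone.K.z (tG KDone.mGroup KDone.mRep) Q := by
  have hfin := MFive.Row.finite_model
  have hc := MFive.Row.hc
  have h := KChart.chart KDone.lft hc
  have h13 : Nat.Prime 13 := by norm_num
  obtain ⟨x, hx, hxs⟩ := MFive.KPair.exists_order h h13 (by decide) orderOf_s
  have hx13 : x ^ 13 = 1 := by rw [← hx, pow_orderOf_eq_one]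
  have hfr : fr (KChart.pi hc x) = 1 := BpMon.Thirteen.fr_pi KDone.lft hc hx
  have hzx : KDone.K.z * (x : ↥InstData.M.G) = x * KDone.K.z := (mem_centralizer_singleton_iff.1 x.2).symm
  have only : ∀ t : ↥InstData.M.G, t * x = x * t → t * KDone.K.z = KDone.K.z * t → t * t = 1 → t = 1 ∨ t = KDone.K.z := by
    intro t htx htz htt
    by_cases ht : t = 1
    · exact Or.inl ht
    · right
      exact BpMon.Thirteen.only_inv KDone.lft hc (x := x) (t := ⟨t, mem_centralizer_singleton_iff.2 htz⟩) hx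
        (Subtype.ext htt) (fun h1 => ht (congrArg Subtype.val h1)) (Subtype.ext htx.symm)
  obtain ⟨k, hk, hkm⟩ := exists_mem h h13 (by decide) hx13 (V := V) b_mem (by rw [hxs]; exact bs)
  obtain ⟨l, hl, hlm⟩ := exists_mem h h13 (by decide) hx13 (V := V) c_mem (by rw [hxs]; exact cs)
  refine ⟨x, Cfsg.Agent.H794.MonLift.lft (KChart.pi hc) x V, ⟨?_, ?_, ?_, ?_, ?_, ?_, ?_⟩⟩
  · refine ⟨?_, by rw [orderOf_coe, hx], by norm_num, hzx, only, isPGroup_lft h (by decide) hx13 hfr fun v hv => V_sq hv,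
      fun q hq => lft_x hq, fun q hq => lft_z hq, z_mem h, ⟨k, hkm, l, hlm, not_comm h hx13 hfr only hk hl (lft_x hkm)
        (lft_x hlm)⟩, ?_, ?_, ?_⟩
    · have : Fact (Nat.Prime 2) := ⟨Nat.prime_two⟩
      exact orderOf_eq_prime (by rw [pow_two]; exact h.large.z_sq) h.large.z_ne
    · intro h7
      have h1 := h7.trans (BpRankZero.Seven.card_cz h)
      rw [Cfsg.Agent.MonsterU.CoFrameF.card_Co1] at h1
      norm_num at h1
    · rw [Cfsg.Agent.MonsterP.EquivOf.isM_model.2]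
      norm_num
    · rw [Cfsg.Agent.MonsterP.EquivOf.isM_model.2]
      norm_num
  · -- the order of `t`
    have : Fact (Nat.Prime 2) := ⟨Nat.prime_two⟩
    exact orderOf_eq_prime (by rw [pow_two]; exact Subtype.ext KDone.mRep.t₀_sq)
      fun h => KDone.mRep.t₀_ne (congrArg Subtype.val h)
  · -- `z` and `t` are not conjugate
    intro hcj
    obtain ⟨g, hg⟩ := isConj_iff.1 hcj.symm
    exact MThirteen.Row.ta_ne (t := tG KDone.mGroup KDone.mRep) (IsConj.refl _) g hg
  · -- the classes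
    intro v hv
    have hv1 : v ≠ 1 := by
      rintro rfl
      rw [orderOf_one] at hv
      exact absurd hv (by norm_num)
    rcases MFive.Row.two v (by rw [← pow_two, ← hv, pow_orderOf_eq_one]) hv1 with ⟨g, hg⟩ | ⟨g, hg⟩
    · exact Or.inl (isConj_iff.2 ⟨g, hg⟩)
    · exact Or.inr (isConj_iff.2 ⟨g, hg⟩)
  · -- the centralizer of `t`
    have h1 : Nat.card ↥(centralizer ({tG KDone.mGroup KDone.mRep} : Set ↥InstData.M.G)) = _ :=
      card_cent_t Instance.mGroup Instance.mRep Instance.mLat InstanceFinal.mOrbit Instance.mTrans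
    rw [h1]
    norm_num
  · -- six transpositions
    intro a b ha hb hab
    obtain ⟨g, rfl⟩ := isConj_iff.1 ha
    obtain ⟨g', rfl⟩ := isConj_iff.1 hb
    have h1 : orderOf (tG KDone.mGroup KDone.mRep * ((g⁻¹ * g') * tG KDone.mGroup KDone.mRep * (g⁻¹ * g')⁻¹)) ≤ 6 :=
      six Instance.mGroup Instance.mRep Instance.mLat InstanceFinal.mOrbit Instance.mTrans
        InstanceFinal.mExtra.order_le (g⁻¹ * g')
    have h2 := orderOf_conj' g (tG KDone.mGroup KDone.mRep * ((g⁻¹ * g') * tG KDone.mGroup KDone.mRep * (g⁻¹ * g')⁻¹))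
    have h3 : g * (tG KDone.mGroup KDone.mRep * ((g⁻¹ * g') * tG KDone.mGroup KDone.mRep * (g⁻¹ * g')⁻¹)) * g⁻¹ =
        g * tG KDone.mGroup KDone.mRep * g⁻¹ * (g' * tG KDone.mGroup KDone.mRep * g'⁻¹) := by group
    rw [h3, hab] at h2
    omega
  · -- the fifth power
    obtain ⟨c, hc'⟩ := MFive.exists_conj_of_conj h h13 (by decide) (x := x) (y := x ^ 5) (s := Cfsg.Agent.H131.T5M13D.n) hx13
      (by rw [← pow_mul, mul_comm, pow_mul, hx13, one_pow]) (by
        rw [map_pow, hxs]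
        exact Cfsg.Agent.H131.T5M13D.ns)
    refine ⟨c, ?_⟩
    have h1 := congrArg Subtype.val hc'
    simpa only [Subgroup.coe_mul, InvMemClass.coe_inv, SubmonoidClass.coe_pow] using h1

end model

/-- **the elements of order 13**, if the Sylow subgroups are not abelian -/
theorem moved_thirteen (hna : ∀ S : Sylow 13 ↥InstData.M.G, ∃ a ∈ (S : Subgroup ↥InstData.M.G),
    ∃ b ∈ (S : Subgroup ↥InstData.M.G), a * b ≠ b * a) : Moved 13 ↥InstData.M.G := by
  have hfin : Finite ↥InstData.M.G := MThirteen.Row.finite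
  obtain ⟨x, Q, h⟩ := model_D'
  obtain ⟨R, W, hr⟩ := h.exists_RW hna
  obtain ⟨a, ha, hat, hza⟩ := h.exists_bad
  obtain ⟨c, hc⟩ := h.four
  -- `x` is moved
  have hxm : MovedAt x := by
    refine ⟨c, 5, hc, ?_⟩
    intro h1
    have h2 : x ^ 4 = 1 := by
      have h3 : x ^ 4 * x = 1 * x := by rw [one_mul, ← pow_succ]; exact h1
      exact mul_right_cancel h3
    have h3 := orderOf_dvd_of_pow_eq_one h2
    rw [h.hyp.hx] at h3
    norm_num at h3
  -- `a` is moved
  have ham : MovedAt a := by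
    obtain ⟨g, hg⟩ := ModelB.exists_conj_t LitFin.all.hG LitFin.all.hR KDone.lnk KDone.lft KDone.lnk.x₀_mem
    have hg' : g * tG KDone.mGroup KDone.mRep * g⁻¹ = KDone.K.ι KLinkInst.x₀ := hg
    refine MovedAt.of_conj (k := g) (movedAt_t (by rw [orderOf_conj', ha]) ?_)
    rw [← hg']
    calc g * a * g⁻¹ * (g * tG KDone.mGroup KDone.mRep * g⁻¹) = g * (a * tG KDone.mGroup KDone.mRep) * g⁻¹ := by group
      _ = g * (tG KDone.mGroup KDone.mRep * a) * g⁻¹ := by rw [hat]
      _ = _ := by group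
  intro y hy
  by_cases hty : TB KDone.K.z y
  · obtain ⟨k, hk⟩ := h.tb_pow hy hty
    obtain ⟨g, hg⟩ := isConj_iff.1 hk
    have h1 : orderOf (x ^ (k : ℤ)) = 13 := by
      rw [zpow_natCast, ← hg, orderOf_conj', hy]
    have h2 := movedAt_pow hxm h.hyp.hx h1
    rw [zpow_natCast] at h2
    exact MovedAt.of_isConj hk.symm h2
  · obtain ⟨k, hk⟩ := h.bad_conj' hr ha hy hza hty
    obtain ⟨g, hg⟩ := isConj_iff.1 hk
    have h1 : orderOf (a ^ k) = 13 := by
      rw [← hy, ← hg, orderOf_conj']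
    exact MovedAt.of_isConj hk (movedAt_pow ham ha h1)

/-- **The abelian case.** -/
theorem exists_cube : ∃ R Q : Subgroup ↥InstData.M.G, Nat.card R = 13 ^ 3 ∧ IsPGroup 2 Q ∧
    (∀ q ∈ Q, ∀ r ∈ R, q * r * q⁻¹ ∈ R) ∧ ∃ k ∈ Q, ∃ l ∈ Q, ∃ r ∈ R, k * l * r * (k * l)⁻¹ ≠ l * k * r * (l * k)⁻¹ := by
  have hfin : Finite ↥InstData.M.G := MThirteen.Row.finite
  have hp : Fact (Nat.Prime 13) := ⟨by norm_num⟩
  obtain ⟨x, Q, h⟩ := model_D'
  obtain ⟨R, -, -, -, hQR, hRc, hno⟩ := h.hyp.exists_R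
  obtain ⟨k, hk, l, hl, hkl⟩ := h.hyp.nc
  refine ⟨R, Q, hRc, h.hyp.q2, hQR, k, hk, l, hl, ?_⟩
  by_contra hcon
  push Not at hcon
  apply hno k hk l hl hkl
  intro r hr
  have h1 : k⁻¹ * l⁻¹ * r * (k⁻¹ * l⁻¹)⁻¹ ∈ R := by
    have h2 := hQR _ (mul_mem (inv_mem hk) (inv_mem hl)) r hr
    exact h2
  have h2 := hcon _ h1
  calc k * l * k⁻¹ * l⁻¹ * r * (k * l * k⁻¹ * l⁻¹)⁻¹
      = k * l * (k⁻¹ * l⁻¹ * r * (k⁻¹ * l⁻¹)⁻¹) * (k * l)⁻¹ := by group
    _ = l * k * (k⁻¹ * l⁻¹ * r * (k⁻¹ * l⁻¹)⁻¹) * (l * k)⁻¹ := h2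
    _ = r := by group

end Cfsg.Agent.H979.Ccp.MThirteen
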