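import Cfsg.Agent.H979.Ccp.MonRow
import Cfsg.Agent.H979.Ccp.MThirteen
import Cfsg.Agent.H979.Ccp.MFiveC
import Cfsg.Agent.H544.Ccp.MSeven
import Cfsg.Agent.H544.Ccp.MEleven
import Cfsg.Agent.H109.NrM
import Cfsg.Agent.CpAutBFive.Closed

/-!
# S4114, the row of the Monster (helper979)
-/

set_option autoImplicit false
set_option maxRecDepth 100000

namespace Cfsg.Agent.H979.Ccp.Mon

open Subgroup Cfsg Cfsg.Agent.H520 Cfsg.Agent.H497.Stein Cfsg.Agent.H979.Ccp.MonRow
open Cfsg.Agent.MonsterX Cfsg.Agent.MonsterU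
open Cfsg.Agent.BpSpor.MBigModel

universe u

/-- the facts -/
theorem mf (h5 : CenNS 5 MG) : MF MG where
  card := card_M
  inn β := KFacts.MonsterE.inner_model KDone.mGroup KDone.mRep KDone.mLat Uncond.mOrbit Instance.mTrans β
  rad p hp hp2 t ht := by
    have hfin := finite
    rcases cls ht with ⟨g, hg⟩ | h
    · exact H109.Nr.M.radFree_conj hp hg (H109.Nr.M.radFree_z hp hp2)
    · exact H109.Nr.M.radFree_t hp hp2 h
  five := h5
  seven := H544.Ccp.MSeven.seven
  eleven := H544.Ccp.MEleven.eleven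
  thirteen := MThirteen.moved_thirteen
  cube := MThirteen.exists_cube

theorem row_of (h5 : CenNS 5 MG) {G : Type u} [Group G] [Finite G] (h : Cfsg.Spor.IsoM G) : Row G := by
  obtain ⟨e⟩ := h
  obtain ⟨f⟩ := MonsterP.Equiv.equiv
  exact Row.congr (e.trans f) (mf h5).row

/-- **The row of the Monster.** -/
theorem row_M {G : Type u} [Group G] [Finite G] (h : Cfsg.Spor.IsoM G) : Row G := row_of MFiveC.five h

end Cfsg.Agent.H979.Ccp.Mon
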