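import Cfsg.Agent.H497.Stein.Eng
import Cfsg.Agent.H184.Fi22Three
import Cfsg.Agent.BpTab.Final

/-!
# S4114: the row `Fi22` (helper979)
-/

set_option autoImplicit false
set_option maxRecDepth 100000

namespace Cfsg.Agent.H979.Ccp.FiTT

open Subgroup Cfsg Cfsg.Agent.H520 Cfsg.Agent.H497.Stein
open Cfsg.Spor Cfsg.Spor.Fi22 Cfsg.Agent.Lib.PermNet Cfsg.Agent.Lib.PermNetOrbit Cfsg.Agent.Lib.PermNetFix
open Cfsg.Agent.Fischer Cfsg.Agent.Fischer.Fi22PtsRep Cfsg.Agent.H834 Cfsg.Agent.H834.AC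
open Cfsg.Agent.H184.Fi22Ok Cfsg.Agent.H184.Fi22Three

universe u

theorem real_of {g w : List Gen} (h : eqB (g ++ w) (w.reverse ++ g) = true) : IsConj (wd w) (wd w)⁻¹ := by
  have h1 := eq_of h
  rw [wd_append, wd_append, wd_reverse] at h1
  exact isConj_iff.2 ⟨wd g, by rw [h1, mul_inv_cancel_right]⟩

theorem real_xw3 (i : Fin 4) : IsConj (wd (xw3 i)) (wd (xw3 i))⁻¹ := by
  fin_cases i
  · exact real_of (g := [.a]) (w := [.a, .b]) (by decide +kernel)
  · exact real_of (g := [.a, .e]) (w := [.a, .b, .e, .f]) (by decide +kernel)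
  · exact real_of (g := [.a, .b, .c, .d, .e, .h, .a, .b, .c, .d, .a, .b, .c, .a, .b, .a])
      (w := [.a, .b, .c, .d, .h, .e, .i, .a, .b, .c, .d, .h, .e, .i, .a, .b, .c, .d, .h, .e, .i]) (by decide +kernel)
  · exact real_of (g := [.b, .h, .f]) (w := [.b, .h, .i, .c, .f, .e]) (by decide +kernel)

theorem moved_three : Moved 3 Spor.Fi22 := by
  have hfin : Finite Spor.Fi22 := Nat.finite_of_card_ne_zero (by rw [Cfsg.Agent.S1696.result.2]; norm_num)
  have h3 : Fact (Nat.Prime 3) := ⟨Nat.prime_three⟩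
  refine moved_of_real Nat.prime_three (by norm_num) fun y hy => ?_
  obtain ⟨i, g, hg⟩ := exists_rep (X := zpowers y) (by rw [Nat.card_zpowers, hy])
  have h1 : g * wd (xw3 i) * g⁻¹ ∈ zpowers y := by
    rw [← hg]
    exact ⟨_, mem_zpowers _, rfl⟩
  have h2 : IsConj (g * wd (xw3 i) * g⁻¹) (g * wd (xw3 i) * g⁻¹)⁻¹ := by
    have h4 : IsConj (g * wd (xw3 i) * g⁻¹) (wd (xw3 i)) := (isConj_iff.2 ⟨g, rfl⟩ : IsConj (wd (xw3 i)) _).symm
    have h5 : IsConj (wd (xw3 i))⁻¹ (g * wd (xw3 i) * g⁻¹)⁻¹ := isConj_iff.2 ⟨g, by group⟩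
    exact (h4.trans (real_xw3 i)).trans h5
  have h6 : orderOf (g * wd (xw3 i) * g⁻¹) = 3 := by
    rw [← MulAut.conj_apply, MulEquiv.orderOf_eq, ord_xw3]
  have hy3 : y ^ 3 = 1 := by rw [← hy, pow_orderOf_eq_one]
  obtain ⟨k, hk⟩ := mem_zpowers_iff.1 h1
  have h7 : y ^ k = 1 ∨ y ^ k = y ∨ y ^ k = y⁻¹ := by
    have e : y ^ k = y ^ (k % 3) := by
      conv_lhs => rw [← Int.emod_add_mul_ediv k 3, zpow_add, zpow_mul]
      have h9 : y ^ (3 : ℤ) = 1 := by exact_mod_cast hy3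
      rw [h9, one_zpow, mul_one]
    rw [e]
    have h8 : k % 3 = 0 ∨ k % 3 = 1 ∨ k % 3 = 2 := by omega
    rcases h8 with h | h | h
    · left
      rw [h, zpow_zero]
    · right; left
      rw [h, zpow_one]
    · right; right
      rw [h]
      apply eq_inv_of_mul_eq_one_left
      rw [← zpow_add_one]
      exact_mod_cast hy3
  rcases h7 with h | h | h
  · rw [hk] at h
    rw [h, orderOf_one] at h6
    norm_num at h6
  · rw [hk] at h
    rwa [h] at h2
  · rw [hk] at h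
    rw [h, inv_inv] at h2
    exact h2.symm

theorem moved_five : Moved 5 Spor.Fi22 := by
  intro y hy
  have I := Cfsg.Agent.H836.inv_of_iso (MulEquiv.refl Spor.Fi22)
  have hy5 : y ^ 5 = 1 := by rw [← hy, pow_orderOf_eq_one]
  have hy1 : y ≠ 1 := by
    rintro rfl
    rw [orderOf_one] at hy
    norm_num at hy
  obtain ⟨g, hg⟩ := Cfsg.Agent.H835.Five.exists_square I hy5 hy1
  refine ⟨g, 2, hg, ?_⟩
  intro h
  apply hy1
  rw [pow_two] at h
  exact mul_eq_left.1 h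

/-- **S4114, the row `Fi22`.** -/
theorem row_Fi22 {G : Type u} [Group G] [Finite G] (h : Cfsg.Spor.IsoFi22 G) : Cfsg.Agent.H520.Row G := by
  have D := BpSpor.Row.dat_fi22 h
  obtain ⟨e⟩ := h
  refine row_of_dat D (l := [(2, 17), (3, 9), (5, 2), (7, 1), (11, 1), (13, 1)])
    (by decide +kernel) (by norm_num) fun x hx hx2 hx3 => ?_
  simp only [List.mem_cons, List.not_mem_nil, or_false] at hx
  rcases hx with rfl | rfl | rfl | rfl | rfl | rfl
  · exact absurd rfl hx3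
  · exact moved_three.congr e
  · exact moved_five.congr e
  all_goals exact absurd hx2 (by norm_num)

end Cfsg.Agent.H979.Ccp.FiTT
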