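import Cfsg.Agent.H979.Ccp.Sol2
import Cfsg.Agent.Lib.KleinOrder

/-!
# Automorphisms of abelian groups of order `p ^ 3` (helper979)

* `comm_of_cube` : `R` abelian of order `p ^ 3`, `P` a 2-group of automorphisms normalised by `ρ` of 3-power order
  without fixed points on `P`: `P` is abelian;
* `real_sq` : an element of `C_G(α)` inverted in `G` has order at most 2, if `|C_G(α)|` is odd;
* `false_of_sq` : the `q`-part of `α`, Sylow `q`-subgroups abelian of order `q ^ 2`;
* `false_of_cube` : `α` normalises an abelian Sylow `p`-subgroup of order `p ^ 3`.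
-/

set_option autoImplicit false
set_option linter.unusedSectionVars false

namespace Cfsg.Agent.H979.Ccp

open Subgroup Cfsg Cfsg.Agent.H520
open scoped Pointwise

universe u

section aut

variable {R : Type u} [Group R] [Finite R]

/-- elementary abelian 2-groups of automorphisms of an abelian group of order `p ^ 3` -/
theorem not_sixteen {p : ℕ} [hp : Fact p.Prime] (hp2 : p ≠ 2) (hRc : ∀ a b : R, a * b = b * a)
    (hcard : Nat.card R = p ^ 3) {E : Subgroup (MulAut R)} (hE : IsElementaryAbelian 2 E) : ¬ 2 ^ 4 ∣ Nat.card E := by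
  intro hd
  have h2 : Fact (Nat.Prime 2) := ⟨Nat.prime_two⟩
  let H := SemidirectProduct R (MulAut R) (MonoidHom.id (MulAut R))
  have hfin : Finite H := Finite.of_equiv _ SemidirectProduct.equivProd.symm
  let N : Subgroup H := (SemidirectProduct.inl : R →* H).range
  let A : Subgroup H := E.map (SemidirectProduct.inr : MulAut R →* H)
  have hNc : Nat.card N = p ^ 3 := by
    rw [← hcard]
    exact (Nat.card_congr (MonoidHom.ofInjective (SemidirectProduct.inl_injective (N := R) (G := MulAut R)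
      (φ := MonoidHom.id (MulAut R)))).toEquiv).symm
  have hAc : Nat.card A = Nat.card E := card_map_of_injective SemidirectProduct.inr_injective
  have hact : ∀ (g : MulAut R) (r : R), (SemidirectProduct.inr g : H) * SemidirectProduct.inl r *
      (SemidirectProduct.inr g : H)⁻¹ = SemidirectProduct.inl (g r) := by
    intro g r
    have h1 := SemidirectProduct.inl_aut (φ := MonoidHom.id (MulAut R)) g r
    rw [← map_inv]
    exact h1.symm
  have h1 := pow_dvd_of_faithful (q := 2) (s := p) hp2 4 A N ⟨?_, ?_⟩ (IsPGroup.of_card hNc) ?_ ?_ ?_ (by rwa [hAc])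
  · rw [hNc] at h1
    have h3 : 1 ≤ orderOf (p : ZMod 2) := by
      have h4 : (p : ZMod 2) = 1 := by
        have h5 := hp.out.eq_two_or_odd'.resolve_left hp2
        exact (ZMod.natCast_eq_one_iff_odd).2 h5
      rw [h4, orderOf_one]
    have h4 := (Nat.pow_dvd_pow_iff_le_right hp.out.one_lt).1 h1
    omega
  · refine ⟨⟨?_⟩⟩
    rintro ⟨_, a, ha, rfl⟩ ⟨_, b, hb, rfl⟩
    apply Subtype.ext
    show (SemidirectProduct.inr a : H) * SemidirectProduct.inr b = SemidirectProduct.inr b * SemidirectProduct.inr a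
    rw [← map_mul, ← map_mul]
    congr 1
    exact congrArg Subtype.val (hE.1.is_comm.comm (⟨a, ha⟩ : ↥E) ⟨b, hb⟩)
  · rintro _ ⟨a, ha, rfl⟩
    rw [← map_pow, hE.2 a ha, map_one]
  · rintro _ ⟨a, rfl⟩ _ ⟨b, rfl⟩
    rw [← map_mul, ← map_mul, hRc]
  · rintro _ ⟨a, ha, rfl⟩
    rw [mem_normalizer_iff]
    intro n
    have key : ∀ (a : MulAut R) (n : H), n ∈ N → (SemidirectProduct.inr a : H) * n * (SemidirectProduct.inr a : H)⁻¹ ∈ N := by
      rintro a _ ⟨r, rfl⟩
      rw [hact]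
      exact ⟨_, rfl⟩
    refine ⟨key a n, fun h5 => ?_⟩
    have h6 := key a⁻¹ _ h5
    have e : (SemidirectProduct.inr a⁻¹ : H) * (SemidirectProduct.inr a * n * (SemidirectProduct.inr a : H)⁻¹) *
        (SemidirectProduct.inr a⁻¹ : H)⁻¹ = n := by
      rw [map_inv]
      group
    rwa [e] at h6
  · rw [eq_bot_iff]
    rintro _ ⟨⟨a, ha, rfl⟩, hc⟩
    rw [mem_bot]
    have h3 : a = 1 := by
      ext r
      have h4 := mem_centralizer_iff.1 hc (SemidirectProduct.inl r) ⟨r, rfl⟩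
      have h5 := hact a r
      rw [← h4, mul_inv_cancel_right] at h5
      exact (SemidirectProduct.inl_injective h5).symm
    rw [h3, map_one]

/-- `|C_R(ρ e ρ⁻¹)| = |C_R(e)|` -/
theorem card_fixA_conj (ρ e : MulAut R) : Nat.card (fixA (ρ * e * ρ⁻¹)) = Nat.card (fixA e) := by
  have h1 : (fixA e).map ρ.toMonoidHom = fixA (ρ * e * ρ⁻¹) := by
    ext r
    constructor
    · rintro ⟨s, hs, rfl⟩
      show (ρ * e * ρ⁻¹) (ρ s) = ρ s
      have hs' : e s = s := hs
      rw [MulAut.mul_apply, MulAut.mul_apply, MulAut.inv_apply_self, hs']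
    · intro hr
      refine ⟨ρ⁻¹ r, ?_, MulAut.apply_inv_self R ρ r⟩
      show e (ρ⁻¹ r) = ρ⁻¹ r
      have hr' : (ρ * e * ρ⁻¹) r = r := hr
      apply ρ.injective
      rw [MulAut.apply_inv_self]
      exact hr'
  rw [← h1]
  exact card_map_of_injective (f := ρ.toMonoidHom) ρ.injective

/-- **2-groups of automorphisms of an abelian group of order `p ^ 3`.** -/
theorem comm_of_cube {p : ℕ} [hp : Fact p.Prime] (hp2 : p ≠ 2) (hRc : ∀ a b : R, a * b = b * a)
    (hcard : Nat.card R = p ^ 3) {P : Subgroup (MulAut R)} (hP : IsPGroup 2 P) {ρ : MulAut R}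
    (hρP : ∀ g ∈ P, MulAut.conj ρ g ∈ P) (hρ3 : ∃ k, ∀ g ∈ P, (MulAut.conj ρ ^ 3 ^ k) g = g)
    (hfix : ∀ g ∈ P, MulAut.conj ρ g = g → g = 1) : ∀ g ∈ P, ∀ h ∈ P, g * h = h * g := by
  classical
  have h2 : Fact (Nat.Prime 2) := ⟨Nat.prime_two⟩
  have h3 : Fact (Nat.Prime 3) := ⟨Nat.prime_three⟩
  have hfinA : Finite (MulAut R) := inferInstance
  by_cases hPb : P = ⊥
  · intro g hg h hh
    rw [hPb, mem_bot] at hg hh
    rw [hg, hh]
  obtain ⟨E, hE⟩ : ∃ E, E = om 2 P := ⟨_, rfl⟩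
  have hEne : E ≠ ⊥ := hE ▸ om_ne_bot hP hPb
  have hEP : ∀ e ∈ E, e ∈ P := fun e he => (hE ▸ he : e ∈ om 2 P).1
  have hEsq : ∀ e ∈ E, e ^ 2 = 1 := fun e he => (hE ▸ he : e ∈ om 2 P).2.1
  have hEc : ∀ e ∈ E, ∀ g ∈ P, e * g = g * e := fun e he => (hE ▸ he : e ∈ om 2 P).2.2
  have hEi : ∀ e ∈ E, MulAut.conj ρ e ∈ E := by
    intro e he
    rw [hE] at he ⊢
    exact om_inv hρP e he
  have hEab : IsElementaryAbelian 2 E := ⟨⟨⟨fun u v => Subtype.ext (hEc u u.2 v (hEP v v.2))⟩⟩, hEsq⟩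
  -- the order of `E`
  have hE4 : Nat.card E = 4 := by
    have h4 := card_fixA_modEq (p := 3) (σ := resA (MulAut.conj ρ) E hEi) (by
      obtain ⟨k, hk⟩ := hρ3
      apply exists_pow_order (p := 3) (j := k)
      ext e
      rw [resA_pow_coe, hk _ (hEP e e.2)]
      rfl)
    have h5 : fixA (resA (MulAut.conj ρ) E hEi) = ⊥ := by
      rw [eq_bot_iff]
      intro e he
      have h6 : MulAut.conj ρ (e : MulAut R) = e := congrArg Subtype.val he
      exact Subtype.ext (hfix e (hEP e e.2) h6)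
    rw [h5, card_bot] at h4
    obtain ⟨r, hr⟩ := IsPGroup.iff_card.1 (hP.to_le hEP)
    have h6 : r ≤ 3 := by
      by_contra h7
      exact not_sixteen hp2 hRc hcard hEab (hr ▸ pow_dvd_pow 2 (by omega))
    have h7 : r ≠ 0 := by
      rintro rfl
      rw [pow_zero] at hr
      exact hEne (card_eq_one.1 hr)
    rw [hr] at h4 ⊢
    interval_cases r
    · exact absurd rfl h7
    · exact absurd h4 (by decide)
    · rfl
    · exact absurd h4 (by decide)
  -- the elements
  obtain ⟨e, he, he1⟩ : ∃ e ∈ E, e ≠ 1 := by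
    by_contra hcon
    push Not at hcon
    exact hEne ((eq_bot_iff_forall _).2 hcon)
  obtain ⟨f, hf⟩ : ∃ f, f = MulAut.conj ρ e := ⟨_, rfl⟩
  have hfE : f ∈ E := hf ▸ hEi e he
  have hfe : f ≠ e := by
    intro h4
    exact he1 (hfix e (hEP e he) (hf ▸ h4))
  have hf1 : f ≠ 1 := by
    intro h4
    rw [hf] at h4
    exact he1 ((MulAut.conj ρ).injective (by rw [h4, map_one]))
  have hee : e * e = 1 := by rw [← pow_two, hEsq e he]
  have hff : f * f = 1 := by rw [← pow_two, hEsq f hfE]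
  have hef : e * f = f * e := hEc e he f (hEP f hfE)
  have hef1 : e * f ≠ 1 := by
    intro h4
    apply hfe
    calc f = (e * e) * f := by rw [hee, one_mul]
      _ = e := by rw [mul_assoc, h4, mul_one]
  -- the third element
  have hg : MulAut.conj ρ f = e * f := by
    have h4 : MulAut.conj ρ f ∈ E := hEi f hfE
    by_contra hne
    have h5 : MulAut.conj ρ f ≠ 1 := by
      intro h6
      exact hf1 ((MulAut.conj ρ).injective (by rw [h6, map_one]))
    have h6 : MulAut.conj ρ f ≠ f := fun h6 => hf1 (hfix f (hEP f hfE) h6)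
    have h7 : MulAut.conj ρ f ≠ e := by
      intro h7
      apply hef1
      apply hfix _ (mul_mem (hEP e he) (hEP f hfE))
      rw [map_mul, ← hf, h7, hef]
    have h8 : ({1, e, f, e * f, MulAut.conj ρ f} : Finset (MulAut R)).card = 5 := by
      rw [Finset.card_insert_of_notMem, Finset.card_insert_of_notMem, Finset.card_insert_of_notMem,
        Finset.card_insert_of_notMem, Finset.card_singleton]
      · rw [Finset.mem_singleton]; exact fun h => hne h.symm
      · rw [Finset.mem_insert, Finset.mem_singleton]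
        rintro (h | h)
        · exact he1 (mul_eq_right.1 h.symm)
        · exact h6 h.symm
      · simp only [Finset.mem_insert, Finset.mem_singleton]
        rintro (h | h | h)
        · exact hfe h.symm
        · exact hf1 (mul_eq_left.1 h.symm)
        · exact h7 h.symm
      · simp only [Finset.mem_insert, Finset.mem_singleton]
        rintro (h | h | h | h)
        · exact he1 h.symm
        · exact hf1 h.symm
        · exact hef1 h.symm
        · exact h5 h.symm
    have h9 : (({1, e, f, e * f, MulAut.conj ρ f} : Finset (MulAut R)) : Set (MulAut R)) ⊆ E := by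
      intro x hx
      simp only [Finset.coe_insert, Finset.coe_singleton, Set.mem_insert_iff, Set.mem_singleton_iff] at hx
      rcases hx with rfl | rfl | rfl | rfl | rfl
      · exact one_mem E
      · exact he
      · exact hfE
      · exact mul_mem he hfE
      · exact h4
    have h10 := Set.ncard_le_ncard h9
    rw [Set.ncard_coe_finset, h8] at h10
    have h11 : (E : Set (MulAut R)).ncard = Nat.card E := rfl
    rw [h11, hE4] at h10
    omega
  -- the orders of the fixed points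
  have hcf : Nat.card (fixA f) = Nat.card (fixA e) := by
    rw [hf]
    exact card_fixA_conj ρ e
  have hcef : Nat.card (fixA (e * f)) = Nat.card (fixA e) := by
    rw [← hg, ← hcf]
    exact card_fixA_conj ρ f
  have hRo : Odd (Nat.card R) := by
    rw [hcard]
    exact (hp.out.odd_of_ne_two hp2).pow
  -- the formula
  have formula : ∀ D : Subgroup R, (∀ d ∈ D, e d ∈ D) → (∀ d ∈ D, f d ∈ D) →
      Nat.card D * Nat.card ↥(D ⊓ fixA e ⊓ fixA f : Subgroup R) ^ 2 =
        Nat.card ↥(D ⊓ fixA e : Subgroup R) * Nat.card ↥(D ⊓ fixA f : Subgroup R) *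
          Nat.card ↥(D ⊓ fixA (e * f) : Subgroup R) := by
    intro D hDe hDf
    have h4 := Lib.KleinOrder.card_klein_aux D (hRo.of_dvd_nat (card_subgroup_dvd_card D)) e.toMonoidHom f.toMonoidHom
      (fun g => by
        show (e * e) g = g
        rw [hee]; rfl)
      (fun g => by
        show (f * f) g = g
        rw [hff]; rfl)
      (fun g => by
        show (e * f) g = (f * e) g
        rw [hef]) hDe hDf
    have k1 : Nat.card {h : R // h ∈ D ∧ e.toMonoidHom h = h ∧ f.toMonoidHom h = h} =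
        Nat.card ↥(D ⊓ fixA e ⊓ fixA f : Subgroup R) :=
      Nat.card_congr (Equiv.subtypeEquivRight fun g => ⟨fun x => ⟨⟨x.1, x.2.1⟩, x.2.2⟩, fun x => ⟨x.1.1, x.1.2, x.2⟩⟩)
    rw [k1] at h4
    exact h4
  -- the order of `C_R(e)`
  obtain ⟨i, hi⟩ : ∃ i, Nat.card (fixA e) = p ^ i := by
    obtain ⟨i, -, hi⟩ := (Nat.dvd_prime_pow hp.out).1 (hcard ▸ card_subgroup_dvd_card (fixA e))
    exact ⟨i, hi⟩
  obtain ⟨m, hm⟩ : ∃ m, Nat.card ↥((fixA e ⊓ fixA f : Subgroup R)) = p ^ m := by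
    obtain ⟨i, -, hi⟩ := (Nat.dvd_prime_pow hp.out).1 (hcard ▸ card_subgroup_dvd_card (fixA e ⊓ fixA f))
    exact ⟨i, hi⟩
  have hi3 : i < 3 := by
    by_contra h4
    apply he1
    have h5 : fixA e = ⊤ := by
      apply Subgroup.eq_top_of_le_card
      rw [hi, hcard]
      exact Nat.pow_le_pow_right hp.out.pos (by omega)
    ext r
    have h6 : r ∈ fixA e := by rw [h5]; trivial
    exact h6
  have h4 := formula ⊤ (fun _ _ => mem_top _) (fun _ _ => mem_top _)
  rw [top_inf_eq, top_inf_eq, top_inf_eq, card_top, hcard, hm, hcf, hcef, hi, ← pow_mul, ← pow_add, ← pow_add,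
    ← pow_add] at h4
  have h5 := Nat.pow_right_injective hp.out.two_le h4
  have hi1 : i = 1 := by omega
  have hm0 : m = 0 := by omega
  rw [hi1, pow_one] at hi
  rw [hm0, pow_zero] at hm
  -- commuting automorphisms of `C_R(e)`
  have key : ∀ e' ∈ E, Nat.card (fixA e') = p → ∀ g ∈ P, ∀ h ∈ P, ∀ w ∈ fixA e', (g * h) w = (h * g) w := by
    intro e' he' hc g hg h hh w hw
    have hpres : ∀ g ∈ P, ∀ w ∈ fixA e', g w ∈ fixA e' := by
      intro g hg w hw
      show e' (g w) = g w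
      have hw' : e' w = w := hw
      have h6 : (e' * g) w = (g * e') w := by rw [hEc e' he' g hg]
      rw [MulAut.mul_apply, MulAut.mul_apply, hw'] at h6
      exact h6
    by_cases hw1 : w = 1
    · rw [hw1, map_one, map_one]
    have hz : ∀ v ∈ fixA e', v ∈ zpowers w := by
      intro v hv
      have h6 : zpowers w = fixA e' := by
        apply eq_of_le_of_card_ge (zpowers_le.2 hw)
        rw [hc, Nat.card_zpowers]
        have h7 : orderOf w ∣ p := by
          rw [← hc]
          have h8 : orderOf (⟨w, hw⟩ : ↥(fixA e')) = orderOf w := Subgroup.orderOf_mk w hw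
          rw [← h8]
          exact orderOf_dvd_natCard _
        rcases (Nat.dvd_prime hp.out).1 h7 with h8 | h8
        · exact absurd (orderOf_eq_one_iff.1 h8) hw1
        · exact h8.ge
      rw [h6]
      exact hv
    obtain ⟨a, ha⟩ := hz _ (hpres g hg w hw)
    obtain ⟨b, hb⟩ := hz _ (hpres h hh w hw)
    have ha' : w ^ a = g w := ha
    have hb' : w ^ b = h w := hb
    rw [MulAut.mul_apply, MulAut.mul_apply, ← ha', ← hb', map_zpow, map_zpow, ← ha', ← hb', ← zpow_mul, ← zpow_mul,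
      mul_comm]
  intro g hg' h hh
  -- the commutator
  obtain ⟨k, hk⟩ : ∃ k, k = g * h * g⁻¹ * h⁻¹ := ⟨_, rfl⟩
  have hkP : k ∈ P := hk ▸ mul_mem (mul_mem (mul_mem hg' hh) (inv_mem hg')) (inv_mem hh)
  have hle : ∀ e' ∈ E, Nat.card (fixA e') = p → fixA e' ≤ fixA k := by
    intro e' he' hc w hw
    show k w = w
    have hpres : ∀ g ∈ P, g w ∈ fixA e' := by
      intro g hg
      show e' (g w) = g w
      have hw' : e' w = w := hw
      have h6 : (e' * g) w = (g * e') w := by rw [hEc e' he' g hg]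
      rw [MulAut.mul_apply, MulAut.mul_apply, hw'] at h6
      exact h6
    have h6 := key e' he' hc g hg' h hh _ (hpres (g⁻¹ * h⁻¹) (mul_mem (inv_mem hg') (inv_mem hh)))
    rw [← MulAut.mul_apply, ← MulAut.mul_apply] at h6
    have e1 : g * h * (g⁻¹ * h⁻¹) = k := by rw [hk]; group
    have e2 : h * g * (g⁻¹ * h⁻¹) = 1 := by group
    rw [e1, e2] at h6
    exact h6
  have hDi : ∀ e' ∈ E, ∀ d ∈ fixA k, e' d ∈ fixA k := by
    intro e' he' d hd
    show k (e' d) = e' d
    have hd' : k d = d := hd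
    have h6 : (e' * k) d = (k * e') d := by rw [hEc e' he' k hkP]
    rw [MulAut.mul_apply, MulAut.mul_apply, hd'] at h6
    exact h6.symm
  have h6 := formula (fixA k) (hDi e he) (hDi f hfE)
  have hce : Nat.card (fixA e) = p := hi
  have hcf' : Nat.card (fixA f) = p := hcf.trans hi
  have hcef' : Nat.card (fixA (e * f)) = p := hcef.trans hi
  rw [inf_eq_right.2 (hle e he hce), inf_eq_right.2 (hle f hfE hcf'), inf_eq_right.2 (hle _ (mul_mem he hfE) hcef'), hm,
    hce, hcf', hcef', one_pow, mul_one] at h6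
  have h7 : fixA k = ⊤ := by
    apply Subgroup.eq_top_of_card_eq
    rw [h6, hcard]
    ring
  have h8 : k = 1 := by
    ext r
    have h9 : r ∈ fixA k := by rw [h7]; trivial
    exact h9
  rw [hk, mul_inv_eq_one, mul_inv_eq_iff_eq_mul] at h8
  exact h8

end aut

section cfg

variable {G : Type u} [Group G] [Finite G] {α : MulAut G}

/-- **Real elements of `C_G(α)`.** -/
theorem real_sq (h : CCP α) (hodd : Odd (Nat.card (fixA α))) {c : G} (hc : α c = c) {g : G} (hg : g * c * g⁻¹ = c⁻¹) :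
    c ^ 2 = 1 := by
  -- the elements normalising `⟨c⟩`
  obtain ⟨M, hM⟩ : ∃ M : Subgroup G, M = normalizer ((zpowers c : Subgroup G) : Set G) := ⟨_, rfl⟩
  have hzi : ∀ m ∈ zpowers c, α m ∈ zpowers c := by
    rintro _ ⟨i, rfl⟩
    refine ⟨i, ?_⟩
    show c ^ i = α (c ^ i)
    rw [map_zpow, hc]
  have hMi : ∀ m ∈ M, α m ∈ M := by
    intro m hm
    rw [hM] at hm ⊢
    exact normalizer_inv hzi m hm
  have hgM : g ∈ M := by
    rw [hM, mem_normalizer_iff]
    intro y
    have hg' : g⁻¹ * c * g = c⁻¹ := by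
      have h1 : g⁻¹ * c⁻¹ * g = c := by rw [← hg]; group
      calc g⁻¹ * c * g = (g⁻¹ * c⁻¹ * g)⁻¹ := by group
        _ = c⁻¹ := by rw [h1]
    constructor
    · rintro ⟨i, rfl⟩
      refine ⟨-i, ?_⟩
      show c ^ (-i) = g * c ^ i * g⁻¹
      rw [← conj_zpow, hg, inv_zpow, zpow_neg]
    · rintro ⟨i, hi⟩
      refine ⟨-i, ?_⟩
      show c ^ (-i) = y
      have hi' : c ^ i = g * y * g⁻¹ := hi
      have h1 : y = g⁻¹ * c ^ i * g⁻¹⁻¹ := by rw [hi']; group
      rw [h1, ← conj_zpow, inv_inv, hg', inv_zpow, zpow_neg]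
  obtain ⟨d, x, hd, e⟩ := (h.res M hMi) ⟨g, hgM⟩
  have hd' : α d.1 = d.1 := congrArg Subtype.val hd
  have e' : g = d.1 * (x.1⁻¹ * α x.1) := congrArg Subtype.val e
  -- `x⁻¹ α(x)` commutes with `c`
  obtain ⟨i, hi⟩ : x.1 * c * x.1⁻¹ ∈ zpowers c := by
    have h1 : x.1 ∈ normalizer ((zpowers c : Subgroup G) : Set G) := hM ▸ x.2
    exact (mem_normalizer_iff.1 h1 c).1 (mem_zpowers c)
  have hi' : c ^ i = x.1 * c * x.1⁻¹ := hi
  have h1 : α x.1 * c * (α x.1)⁻¹ = c ^ i := by
    have h2 := congrArg α hi'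
    rw [map_zpow, map_mul, map_mul, map_inv, hc] at h2
    exact h2.symm
  have h2 : d.1 * c * d.1⁻¹ = c⁻¹ := by
    rw [← hg, e']
    have h3 : (x.1⁻¹ * α x.1) * c * (x.1⁻¹ * α x.1)⁻¹ = c := by
      calc (x.1⁻¹ * α x.1) * c * (x.1⁻¹ * α x.1)⁻¹ = x.1⁻¹ * (α x.1 * c * (α x.1)⁻¹) * x.1 := by group
        _ = x.1⁻¹ * (x.1 * c * x.1⁻¹) * x.1 := by rw [h1, hi']
        _ = c := by group
    calc d.1 * c * d.1⁻¹ = d.1 * ((x.1⁻¹ * α x.1) * c * (x.1⁻¹ * α x.1)⁻¹) * d.1⁻¹ := by rw [h3]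
      _ = _ := by group
  -- `d` has odd order
  have h3 : Odd (orderOf d.1) := by
    have h4 : orderOf (⟨d.1, hd'⟩ : ↥(fixA α)) = orderOf d.1 := Subgroup.orderOf_mk _ _
    rw [← h4]
    exact hodd.of_dvd_nat (orderOf_dvd_natCard _)
  obtain ⟨n, hn⟩ := h3
  have h4 : ∀ n : ℕ, d.1 ^ (2 * n + 1) * c * (d.1 ^ (2 * n + 1))⁻¹ = c⁻¹ := by
    intro n
    induction n with
    | zero => rw [mul_zero, zero_add, pow_one, h2]
    | succ n ih =>
      have e1 : d.1 ^ (2 * (n + 1) + 1) = d.1 * (d.1 * d.1 ^ (2 * n + 1)) := by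
        rw [← pow_succ', ← pow_succ']
        congr 1
      have h5 : d.1 * c⁻¹ * d.1⁻¹ = c := by
        calc d.1 * c⁻¹ * d.1⁻¹ = (d.1 * c * d.1⁻¹)⁻¹ := by group
          _ = c := by rw [h2, inv_inv]
      calc d.1 ^ (2 * (n + 1) + 1) * c * (d.1 ^ (2 * (n + 1) + 1))⁻¹
          = d.1 * (d.1 * (d.1 ^ (2 * n + 1) * c * (d.1 ^ (2 * n + 1))⁻¹) * d.1⁻¹) * d.1⁻¹ := by rw [e1]; group
        _ = c⁻¹ := by rw [ih, h5, h2]
  have h5 := h4 n
  rw [← hn, pow_orderOf_eq_one, one_mul, inv_one, mul_one] at h5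
  rw [pow_two]
  nth_rw 1 [h5]
  exact inv_mul_cancel c

/-- `q`-elements normalising a Sylow `q`-subgroup -/
theorem mem_of_normalizes {q : ℕ} [hq : Fact q.Prime] (T : Sylow q G) {u : G} (hu : ∃ k : ℕ, u ^ q ^ k = 1)
    (hn : ∀ m ∈ (T : Subgroup G), u * m * u⁻¹ ∈ (T : Subgroup G)) : u ∈ (T : Subgroup G) := by
  obtain ⟨k, hk⟩ := hu
  have h1 : IsPGroup q (zpowers u) := by
    rintro ⟨_, i, rfl⟩
    refine ⟨k, Subtype.ext ?_⟩
    show (u ^ i) ^ q ^ k = 1
    rw [← zpow_natCast, ← zpow_mul, mul_comm, zpow_mul, zpow_natCast, hk, one_zpow]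
  have h2 : u ∈ normalizer ((T : Subgroup G) : Set G) := by
    have h3 : (T : Subgroup G).map (MulAut.conj u).toMonoidHom = T := by
      apply eq_of_le_of_card_ge
      · rintro _ ⟨b, hb, rfl⟩
        exact hn b hb
      · rw [card_map_of_injective (f := (MulAut.conj u).toMonoidHom) (MulAut.conj u).injective]
    rw [mem_normalizer_iff]
    intro b
    refine ⟨hn b, fun hb => ?_⟩
    rw [← h3] at hb
    obtain ⟨b', hb', e⟩ := hb
    have e' : u * b' * u⁻¹ = u * b * u⁻¹ := e
    rw [← mul_left_cancel (mul_right_cancel e')]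
    exact hb'
  have h3 : u ∈ zpowers u ⊓ normalizer (T : Set G) := ⟨mem_zpowers u, h2⟩
  rw [h1.inf_normalizer_sylow T] at h3
  exact h3.2

/-- **Abelian Sylow `q`-subgroups of order `q ^ 2`.** -/
theorem false_of_sq (h : Cfg α) (hodd : Odd (Nat.card (fixA α))) {q : ℕ} [hq : Fact q.Prime]
    (hnum : NumOK2 q (Nat.card G) (orderOf α)) (hqα : q ∣ orderOf α)
    (hinn : ∀ x : MulAut G, x ∈ zpowers α → (∃ k : ℕ, orderOf x = q ^ k) → ∃ u : G, x = MulAut.conj u)
    (T₀ : Sylow q G) (hT₀ : Nat.card (T₀ : Subgroup G) = q ^ 2)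
    (hpr : ∀ p, p.Prime → p ∣ orderOf α → p ≠ q → ¬ p ∣ q * (q - 1)) {c g : G} (hc : orderOf c = q) (hq2 : q ≠ 2)
    (hg : g * c * g⁻¹ = c⁻¹) : False := by
  have hcb := h.center_bot
  obtain ⟨x, z, hx, hz, hα, hxs, hzs, hzα⟩ := exists_ppart α q
  obtain ⟨u, rfl⟩ := hinn x hx hxs
  have hu1 : u ≠ 1 := by
    rintro rfl
    rw [map_one, mul_one] at hα
    rw [hα] at hqα
    exact hzs hqα
  obtain ⟨T, hT⟩ := exists_sylow2 h hodd hnum hx hz hα hxs hzs hu1
  have hTc : Nat.card (T : Subgroup G) = q ^ 2 := by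
    rw [T.card_eq_multiplicity, ← T₀.card_eq_multiplicity, hT₀]
  have hTab : ∀ a ∈ (T : Subgroup G), ∀ b ∈ (T : Subgroup G), a * b = b * a := fun a ha b hb =>
    congrArg Subtype.val ((IsPGroup.isMulCommutative_of_card_eq_prime_sq hTc).is_comm.comm
      (⟨a, ha⟩ : ↥(T : Subgroup G)) ⟨b, hb⟩)
  have hupow : ∃ k : ℕ, u ^ q ^ k = 1 := by
    obtain ⟨k, hk⟩ := hxs
    refine ⟨k, ?_⟩
    apply conj_inj hcb
    rw [map_pow, ← hk, pow_orderOf_eq_one, map_one]
  have huT : u ∈ (T : Subgroup G) := mem_of_normalizes T hupow (zpowers_inv hT hx)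
  have hzT := zpowers_inv hT hz
  have hzu : z u = u := fix_of_comm hcb (Cfg.comm_zpowers hz hx)
  -- `z` acts trivially
  have hσ1 : resA z (T : Subgroup G) hzT = 1 := by
    by_contra hσ
    obtain ⟨p, hp, hpσ⟩ := Nat.exists_prime_and_dvd (n := orderOf (resA z (T : Subgroup G) hzT))
      (fun h1 => hσ (orderOf_eq_one_iff.1 h1))
    have hpf : Fact p.Prime := ⟨hp⟩
    have hpz : p ∣ orderOf z := hpσ.trans (orderOf_resA_dvd z _ hzT)
    have hpq : p ≠ q := by
      rintro rfl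
      exact hzs hpz
    obtain ⟨y, hy, hyo⟩ := exists_prime_order hp hpσ
    have h1 := card_fixA_modEq (p := p) (σ := y) ⟨1, by rw [hyo, pow_one]⟩
    have hy1 : y ≠ 1 := by
      rintro rfl
      rw [orderOf_one] at hyo
      exact hp.one_lt.ne hyo
    have huy : (⟨u, huT⟩ : ↥(T : Subgroup G)) ∈ fixA y := by
      have h2 : resA z (T : Subgroup G) hzT ∈ MulAction.stabilizer (MulAut ↥(T : Subgroup G))
        (⟨u, huT⟩ : ↥(T : Subgroup G)) := Subtype.ext hzu
      have h3 : zpowers (resA z (T : Subgroup G) hzT) ≤ MulAction.stabilizer (MulAut ↥(T : Subgroup G))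
        (⟨u, huT⟩ : ↥(T : Subgroup G)) := by rwa [zpowers_le]
      exact h3 hy
    obtain ⟨j, hj2, hj⟩ : ∃ j ≤ 2, Nat.card (fixA y) = q ^ j := by
      have h2 := (fixA y).card_subgroup_dvd_card
      rw [hTc] at h2
      exact (Nat.dvd_prime_pow hq.out).1 h2
    have hj1 : j = 1 := by
      have h2 : j ≠ 0 := by
        rintro rfl
        rw [pow_zero] at hj
        have h3 := card_eq_one.1 hj
        rw [h3, mem_bot] at huy
        exact hu1 (congrArg Subtype.val huy)
      have h3 : j ≠ 2 := by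
        rintro rfl
        apply hy1
        have h4 : fixA y = ⊤ := Subgroup.eq_top_of_card_eq _ (hj.trans hTc.symm)
        ext m
        have h5 : m ∈ fixA y := by rw [h4]; trivial
        exact congrArg Subtype.val (show y m = m from h5)
      omega
    rw [hTc, hj, hj1, pow_one] at h1
    apply hpr p hp (hpz.trans hzα) hpq
    have h2 : q ≤ q ^ 2 := Nat.le_self_pow (by norm_num) q
    have h3 := (Nat.modEq_iff_dvd' h2).1 h1.symm
    have e : q ^ 2 - q = q * (q - 1) := by
      rw [pow_two, Nat.mul_sub, mul_one]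
    rwa [e] at h3
  -- `T` is centralised by `α`
  have hTα : ∀ t ∈ (T : Subgroup G), α t = t := by
    intro t ht
    rw [hα, MulAut.mul_apply, MulAut.conj_apply, hTab u huT t ht, mul_inv_cancel_right]
    have h1 : resA z (T : Subgroup G) hzT ⟨t, ht⟩ = ⟨t, ht⟩ := by rw [hσ1]; rfl
    exact congrArg Subtype.val h1
  -- a conjugate of `c`
  have h1 : IsPGroup q (zpowers c) := IsPGroup.of_card (n := 1) (by rw [Nat.card_zpowers, hc, pow_one])
  obtain ⟨S, hS⟩ := h1.exists_le_sylow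
  obtain ⟨k, hk⟩ := MulAction.exists_smul_eq G S T
  have h2 : k * c * k⁻¹ ∈ (T : Subgroup G) := by
    rw [← hk]
    exact ⟨c, hS (mem_zpowers c), rfl⟩
  have h3 := real_sq h.ccp hodd (hTα _ h2) (g := k * g * k⁻¹) (by
    calc k * g * k⁻¹ * (k * c * k⁻¹) * (k * g * k⁻¹)⁻¹ = k * (g * c * g⁻¹) * k⁻¹ := by group
      _ = (k * c * k⁻¹)⁻¹ := by rw [hg]; group)
  have h4 : orderOf (k * c * k⁻¹) = q := by
    rw [← hc, ← MulAut.conj_apply, MulEquiv.orderOf_eq]
  have h5 := orderOf_dvd_of_pow_eq_one h3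
  rw [h4] at h5
  exact hq2 ((Nat.prime_dvd_prime_iff_eq hq.out Nat.prime_two).1 h5)

end cfg

end Cfsg.Agent.H979.Ccp
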