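import Mathlib

/-!
# The order of a module for a cyclic group of prime order with an automorphism (helper979)

* `order_le_natDegree` : a polynomial `μ` over `F_s` dividing `μ(X ^ k)` and `X ^ q - 1`, `μ(1) ≠ 0`: the order of `k`
  modulo `q` is at most the degree of `μ`;
* `pow_dvd_of_frob` : `f` an automorphism of order `q` of an elementary abelian `s`-group `V` without fixed points, `τ` an
  automorphism with `τ f τ⁻¹ = f ^ j`, `j` of prime order `p` modulo `q`, `p` prime to the order `m` of `s` modulo `q`: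
  `s ^ (p * m)` divides `|V|`.
-/

set_option autoImplicit false

namespace Cfsg.Agent.H979.Ccp

open Polynomial

section poly

variable {s q : ℕ} [hs : Fact s.Prime] [hq : Fact q.Prime]

theorem order_le_natDegree {μ : (ZMod s)[X]} (h0 : μ ≠ 0) (hd : μ.natDegree ≠ 0) {k : ℕ} (hk : μ ∣ expand (ZMod s) k μ)
    (hX : μ ∣ X ^ q - 1) (h1 : μ.eval 1 ≠ 0) : orderOf (k : ZMod q) ≤ μ.natDegree := by
  classical
  let K := AlgebraicClosure (ZMod s)
  obtain ⟨l, hl⟩ := IsAlgClosed.exists_aeval_eq_zero K μ (fun h => hd (natDegree_eq_zero_iff_degree_le_zero.2 h.le))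
  have hroot : ∀ r : K, aeval r μ = 0 → aeval (r ^ k) μ = 0 := by
    intro r hr
    obtain ⟨g, hg⟩ := hk
    rw [← expand_aeval, hg, map_mul, hr, zero_mul]
  have hit : ∀ i : ℕ, aeval (l ^ k ^ i) μ = 0 := by
    intro i
    induction i with
    | zero => rwa [pow_zero, pow_one]
    | succ i ih =>
      rw [pow_succ, pow_mul]
      exact hroot _ ih
  have hlq : l ^ q = 1 := by
    obtain ⟨g, hg⟩ := hX
    have h2 := congrArg (aeval l) hg
    rw [map_mul, hl, zero_mul, map_sub, map_pow, aeval_X, map_one] at h2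
    exact sub_eq_zero.1 h2
  have hl1 : l ≠ 1 := by
    rintro rfl
    apply h1
    have h2 : aeval (1 : K) μ = algebraMap (ZMod s) K (μ.eval 1) := by
      rw [← map_one (algebraMap (ZMod s) K), aeval_algebraMap_apply]
      rfl
    rw [h2] at hl
    exact (map_eq_zero _).1 hl
  have hl0 : l ≠ 0 := by
    rintro rfl
    rw [zero_pow hq.out.ne_zero] at hlq
    exact zero_ne_one hlq
  obtain ⟨u, hu⟩ : ∃ u : Kˣ, (u : K) = l := ⟨Units.mk0 l hl0, rfl⟩
  have hlo : orderOf u = q := by
    rw [← orderOf_units, hu]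
    exact orderOf_eq_prime hlq hl1
  let n := orderOf (k : ZMod q)
  have hinj : Set.InjOn (fun i : ℕ => l ^ k ^ i) (Finset.range n : Set ℕ) := by
    intro i hi i' hi' h
    have h2 : k ^ i ≡ k ^ i' [MOD q] := by
      rw [← hlo]
      have h' : u ^ k ^ i = u ^ k ^ i' := by
        apply Units.ext
        rw [Units.val_pow_eq_pow_val, Units.val_pow_eq_pow_val, hu]
        exact h
      exact pow_eq_pow_iff_modEq.1 h'
    have h3 : (k : ZMod q) ^ i = (k : ZMod q) ^ i' := by
      have h4 := (ZMod.natCast_eq_natCast_iff _ _ _).2 h2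
      rwa [Nat.cast_pow, Nat.cast_pow] at h4
    exact pow_injOn_Iio_orderOf (Set.mem_Iio.2 (Finset.mem_range.1 hi)) (Set.mem_Iio.2 (Finset.mem_range.1 hi')) h3
  have h2 : (Finset.range n).image (fun i : ℕ => l ^ k ^ i) ⊆ (μ.aroots K).toFinset := by
    intro r hr
    obtain ⟨i, -, rfl⟩ := Finset.mem_image.1 hr
    rw [Multiset.mem_toFinset, mem_aroots]
    exact ⟨h0, hit i⟩
  calc n = ((Finset.range n).image (fun i : ℕ => l ^ k ^ i)).card := by
        rw [Finset.card_image_of_injOn hinj, Finset.card_range]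
    _ ≤ (μ.aroots K).toFinset.card := Finset.card_le_card h2
    _ ≤ Multiset.card (μ.aroots K) := Multiset.toFinset_card_le _
    _ ≤ (μ.map (algebraMap (ZMod s) K)).natDegree := card_roots' _
    _ ≤ μ.natDegree := natDegree_map_le

end poly

section mod

variable {s q p : ℕ} [hs : Fact s.Prime] [hq : Fact q.Prime] [hp : Fact p.Prime] {V : Type*} [AddCommGroup V] [Finite V]
  [Nontrivial V] [Module (ZMod s) V]

theorem le_finrank {f : Module.End (ZMod s) V} (hf : f ^ q = 1) (hf1 : ∀ v, f v = v → v = 0) (τ : V ≃ₗ[ZMod s] V) {j : ℕ}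
    (hτ : ∀ v, τ (f v) = (f ^ j) (τ v)) : orderOf ((s * j : ℕ) : ZMod q) ≤ Module.finrank (ZMod s) V := by
  have hfin : Module.Finite (ZMod s) V := Module.Finite.of_finite
  have hint : IsIntegral (ZMod s) f := Algebra.IsIntegral.isIntegral f
  obtain ⟨μ, hμ⟩ : ∃ μ, μ = minpoly (ZMod s) f := ⟨_, rfl⟩
  have hμ0 : aeval f μ = 0 := hμ ▸ minpoly.aeval _ _
  have hdv : ∀ g : (ZMod s)[X], aeval f g = 0 → μ ∣ g := fun g hg => hμ ▸ minpoly.dvd _ _ hg
  -- `μ(f ^ j) = 0`
  have h1 : aeval (f ^ j) μ = 0 := by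
    have h2 : f ^ j = LinearEquiv.conjAlgEquiv (ZMod s) τ f := by
      ext v
      have h3 := hτ (τ.symm v)
      rw [LinearEquiv.apply_symm_apply] at h3
      rw [LinearEquiv.conjAlgEquiv_apply_apply, h3]
    rw [h2]
    have h3 := aeval_algHom_apply (LinearEquiv.conjAlgEquiv (ZMod s) τ) f μ
    rw [h3, hμ0, map_zero]
  have h2 : μ ∣ expand (ZMod s) j μ := hdv _ (by rw [expand_aeval, h1])
  have h3 : μ ∣ expand (ZMod s) s μ := by
    rw [ZMod.expand_card]
    exact dvd_pow_self μ hs.out.ne_zero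
  have h4 : μ ∣ expand (ZMod s) (s * j) μ := by
    rw [← expand_expand]
    refine h3.trans ?_
    obtain ⟨g, hg⟩ := h2
    rw [hg, map_mul]
    exact dvd_mul_right _ _
  have h5 : μ ∣ X ^ q - 1 := hdv _ (by rw [map_sub, map_pow, aeval_X, map_one, hf, sub_self])
  have h0 : μ ≠ 0 := hμ ▸ minpoly.ne_zero hint
  have hd : μ.natDegree ≠ 0 := hμ ▸ (minpoly.natDegree_pos hint).ne'
  have h6 : μ.eval 1 ≠ 0 := by
    intro h6
    obtain ⟨g, hg⟩ := dvd_iff_isRoot.2 h6
    have hg0 : g ≠ 0 := by
      rintro rfl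
      rw [mul_zero] at hg
      exact h0 hg
    have h7 : aeval f g = 0 := by
      ext v
      have h8 : f (aeval f g v) = aeval f g v := by
        have h9 : (aeval f μ) v = 0 := by rw [hμ0]; rfl
        rw [hg, map_mul, map_sub, aeval_X, map_one, map_one] at h9
        exact sub_eq_zero.1 h9
      exact hf1 _ h8
    have h8 := natDegree_le_of_dvd (hdv g h7) hg0
    have h9 := congrArg natDegree hg
    rw [natDegree_mul (X_sub_C_ne_zero 1) hg0, natDegree_X_sub_C] at h9
    omega
  refine (order_le_natDegree h0 hd h4 h5 h6).trans ?_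
  rw [← LinearMap.charpoly_natDegree f]
  exact natDegree_le_of_dvd (hμ ▸ LinearMap.minpoly_dvd_charpoly f) (LinearMap.charpoly_monic f).ne_zero

end mod

section grp

/-- the additive version -/
theorem pow_dvd_add {s q p : ℕ} [hs : Fact s.Prime] [hq : Fact q.Prime] (hp : p.Prime) {V : Type*} [AddCommGroup V]
    [Finite V] [Nontrivial V] [Module (ZMod s) V] {f t : V →+ V} (hf : ∀ x, f^[q] x = x)
    (hf1 : ∀ x, f x = x → x = 0) (hti : Function.Injective t) {j : ℕ} (ht : ∀ x, t (f x) = f^[j] (t x))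
    (hj : orderOf (j : ZMod q) = p) (hpm : ¬ p ∣ orderOf (s : ZMod q)) :
    s ^ (p * orderOf (s : ZMod q)) ∣ Nat.card V := by
  let F : Module.End (ZMod s) V := f.toZModLinearMap s
  let t1 : V →ₗ[ZMod s] V := t.toZModLinearMap s
  have hinj : Function.Injective t1 := hti
  let T : V ≃ₗ[ZMod s] V := LinearEquiv.ofBijective t1 ⟨hinj, Finite.surjective_of_injective hinj⟩
  have hFp : ∀ (k : ℕ) (v : V), (F ^ k) v = f^[k] v := by
    intro k
    induction k with
    | zero => intro v; rfl
    | succ k ih =>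
      intro v
      rw [pow_succ', Module.End.mul_apply, ih, Function.iterate_succ_apply']
      rfl
  have h1 := le_finrank (s := s) (q := q) (V := V) (f := F) ?_ hf1 T (j := j) ?_
  · have h2 : orderOf ((s * j : ℕ) : ZMod q) = p * orderOf (s : ZMod q) := by
      rw [Nat.cast_mul, Commute.orderOf_mul_eq_mul_orderOf_of_coprime (Commute.all _ _), hj, mul_comm]
      rw [hj, Nat.coprime_comm]
      exact (Nat.Prime.coprime_iff_not_dvd hp).2 hpm
    rw [h2] at h1
    have h3 : Nat.card V = s ^ Module.finrank (ZMod s) V := by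
      have h4 := Module.natCard_eq_pow_finrank (K := ZMod s) (V := V)
      rwa [Nat.card_zmod] at h4
    rw [h3]
    exact pow_dvd_pow s h1
  · apply LinearMap.ext
    intro v
    rw [hFp, hf]
    rfl
  · intro v
    rw [hFp]
    exact ht v

/-- the order of a group with a Frobenius automorphism group -/
theorem pow_dvd_of_aut {s q p : ℕ} [hs : Fact s.Prime] [hq : Fact q.Prime] (hp : p.Prime) {N : Type*} [Group N]
    [Finite N] [Nontrivial N] (hc : ∀ x y : N, x * y = y * x) (hNs : ∀ x : N, x ^ s = 1) {f t : MulAut N}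
    (hf : ∀ x, (f ^ q) x = x) (hf1 : ∀ x, f x = x → x = 1) {j : ℕ} (ht : ∀ x, t (f x) = (f ^ j) (t x))
    (hj : orderOf (j : ZMod q) = p) (hpm : ¬ p ∣ orderOf (s : ZMod q)) :
    s ^ (p * orderOf (s : ZMod q)) ∣ Nat.card N := by
  let _ : CommGroup N := { (inferInstance : Group N) with mul_comm := hc }
  let _ : Module (ZMod s) (Additive N) := AddCommGroup.zmodModule (fun x => by
    apply Additive.toMul.injective
    exact hNs (Additive.toMul x))
  have hit : ∀ (g : MulAut N) (k : ℕ) (x : N), (g ^ k) x = g^[k] x := by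
    intro g k
    induction k with
    | zero => intro x; rfl
    | succ k ih =>
      intro x
      rw [pow_succ', MulAut.mul_apply, ih, Function.iterate_succ_apply']
  refine pow_dvd_add (s := s) (q := q) hp (V := Additive N) (f := MonoidHom.toAdditive f.toMonoidHom)
    (t := MonoidHom.toAdditive t.toMonoidHom) (fun x => ?_) hf1 t.injective (j := j) (fun x => ?_) hj hpm
  · have h1 := hf (Additive.toMul x)
    rw [hit] at h1
    exact h1
  · have h1 := ht (Additive.toMul x)
    rw [hit] at h1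
    exact h1

end grp

end Cfsg.Agent.H979.Ccp
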