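import Cfsg.Agent.H979.Ccp.Rank
import Cfsg.Agent.H979.Ccp.Frob

/-!
# Orders of modules for elementary abelian groups with an automorphism (helper979)

* `pow_dvd_of_hyps` : `n` hyperplanes `B` of `A` with `C_N(B) ≠ C_N(A)`: `s ^ (n * ord_q(s))` divides `|N|`;
* `pow_dvd_of_faithful_move` : `τ` of prime order `p` on the elementary abelian `q`-group `A` acting faithfully on the
  elementary abelian `s`-group `N`, `p ∤ ord_q(s)`: `s ^ (p * ord_q(s))` divides `|N|`.
-/

set_option autoImplicit false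
set_option linter.unusedSectionVars false

namespace Cfsg.Agent.H979.Ccp

open Subgroup Cfsg Cfsg.Agent.H520
open scoped commutatorElement

variable {H : Type*} [Group H] [Finite H]

/-- `N = C_N(B) × [N, B]` -/
theorem card_mul_of_coprime {N B : Subgroup H} (hNc : ∀ x ∈ N, ∀ y ∈ N, x * y = y * x)
    (hBN : B ≤ normalizer (N : Set H)) (hcop : (Nat.card B).Coprime (Nat.card N)) :
    Nat.card ↥(N ⊓ centralizer (B : Set H) : Subgroup H) * Nat.card ↥(⁅N, B⁆ : Subgroup H) = Nat.card ↥N := by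
  have h1 := Lib.CoprimeAbelian.inf_commutator_eq_bot B N hNc hBN hcop
  have h2 := Lib.CoprimeAbelian.sup_commutator_eq B N hNc hBN hcop
  have hle2 : ⁅N, B⁆ ≤ N := le_trans le_sup_right h2.le
  have h3 := Lib.ProductSet.card_mul_card_inf (N ⊓ centralizer (B : Set H)) ⁅N, B⁆
  have h4 : ⁅N, B⁆ ≤ normalizer ((N ⊓ centralizer (B : Set H) : Subgroup H) : Set H) := by
    intro c hc
    rw [mem_normalizer_iff]
    intro m
    have key : ∀ c ∈ N, ∀ m ∈ N ⊓ centralizer (B : Set H), c * m * c⁻¹ ∈ N ⊓ centralizer (B : Set H) := by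
      intro c hc m hm
      rw [hNc c hc m hm.1, mul_inv_cancel_right]
      exact hm
    refine ⟨key c (hle2 hc) m, fun h5 => ?_⟩
    have h6 := key c⁻¹ (N.inv_mem (hle2 hc)) _ h5
    have e : c⁻¹ * (c * m * c⁻¹) * c⁻¹⁻¹ = m := by group
    rwa [e] at h6
  rw [← coe_mul_of_right_le_normalizer_left _ _ h4, h2, h1, card_bot, mul_one] at h3
  exact h3.symm

/-- the condition on hyperplanes -/
def Hy (q : ℕ) (A N B : Subgroup H) : Prop :=
  B ≤ A ∧ B.relIndex A = q ∧ ∃ n ∈ N ⊓ centralizer (B : Set H), n ∉ centralizer (A : Set H)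

/-- generation of `A` by a hyperplane and an element -/
theorem mem_centralizer_of_hyp {q : ℕ} (hq : q.Prime) {A B : Subgroup H} (hBA : B ≤ A) (hi : B.relIndex A = q) {b n : H}
    (hbA : b ∈ A) (hb : b ∉ B) (hn : n ∈ centralizer (B : Set H)) (hbn : b * n = n * b) : n ∈ centralizer (A : Set H) := by
  let C : Subgroup H := A ⊓ centralizer ({n} : Set H)
  have h1 : B ≤ C := le_inf hBA fun x hx => mem_centralizer_singleton_iff.2 (mem_centralizer_iff.1 hn x hx)
  have h2 : C ≤ A := inf_le_left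
  have h3 : B.relIndex C * C.relIndex A = q := by rw [← hi]; exact relIndex_mul_relIndex _ _ _ h1 h2
  have h4 : B.relIndex C ≠ 1 := by
    intro h5
    exact hb (relIndex_eq_one.1 h5 ⟨hbA, mem_centralizer_singleton_iff.2 hbn⟩)
  have h5 : C.relIndex A = 1 := by
    rcases (Nat.dvd_prime hq).1 (Dvd.intro _ h3) with h6 | h6
    · exact absurd h6 h4
    · rw [h6] at h3
      exact Nat.eq_of_mul_eq_mul_left hq.pos (by rw [h3, mul_one])
  have h6 := relIndex_eq_one.1 h5
  exact mem_centralizer_iff.2 fun x hx => mem_centralizer_singleton_iff.1 (h6 hx).2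

/-- distinct hyperplanes -/
theorem exists_notMem {q : ℕ} (hq : q.Prime) {A B C : Subgroup H} (hC : C ≤ A) (hBi : B.relIndex A = q)
    (hCi : C.relIndex A = q) (hne : B ≠ C) : ∃ b ∈ B, b ∉ C := by
  by_contra hcon
  push Not at hcon
  have h1 : B ≤ C := hcon
  have h3 : B.relIndex C * C.relIndex A = q := by rw [← hBi]; exact relIndex_mul_relIndex _ _ _ h1 hC
  rw [hCi] at h3
  have h4 : B.relIndex C = 1 := Nat.eq_of_mul_eq_mul_right hq.pos (by rw [h3, one_mul])
  exact hne (le_antisymm h1 (relIndex_eq_one.1 h4))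

/-- **The order of a module with `n` hyperplanes.** -/
theorem pow_dvd_of_hyps {q s : ℕ} [hq : Fact q.Prime] [hs : Fact s.Prime] (hne : s ≠ q) {A : Subgroup H}
    (hA : IsElementaryAbelian q A) (n : ℕ) : ∀ (N : Subgroup H) (F : Finset (Subgroup H)), F.card ≤ n → IsPGroup s N →
      (∀ x ∈ N, ∀ y ∈ N, x * y = y * x) → A ≤ normalizer (N : Set H) → (∀ B ∈ F, Hy q A N B) →
      s ^ (F.card * orderOf (s : ZMod q)) ∣ Nat.card N := by
  classical
  induction n with
  | zero =>
    intro N F hF _ _ _ _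
    have : F.card = 0 := by omega
    rw [this, zero_mul, pow_zero]
    exact one_dvd _
  | succ n ih =>
    intro N F hFn hN hNc hAN hF
    have hAc : ∀ x ∈ A, ∀ y ∈ A, x * y = y * x := fun x hx y hy =>
      congrArg Subtype.val (hA.1.is_comm.comm (⟨x, hx⟩ : ↥A) ⟨y, hy⟩)
    by_cases hF1 : F.card ≤ 1
    · -- at most one hyperplane
      rcases Nat.le_one_iff_eq_zero_or_eq_one.1 hF1 with h0 | h1
      · rw [h0, zero_mul, pow_zero]
        exact one_dvd _
      · obtain ⟨B, hB⟩ := Finset.card_eq_one.1 h1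
        obtain ⟨hBA, hBi, n, hn, hnA⟩ := hF B (by rw [hB]; exact Finset.mem_singleton_self B)
        rw [h1, one_mul]
        obtain ⟨a, ha, han⟩ : ∃ a ∈ A, a * n ≠ n * a := by
          by_contra hcon
          push Not at hcon
          exact hnA (mem_centralizer_iff.2 hcon)
        exact card_step hne hN (a := a) (hA.2 a ha) (fun m hm => (mem_normalizer_iff.1 (hAN ha) m).1 hm) ⟨n, hn.1, han⟩
    · -- two hyperplanes
      obtain ⟨B₀, hB₀, B₁, hB₁, hne01⟩ := Finset.one_lt_card.1 (by omega : 1 < F.card)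
      obtain ⟨hB₀A, hB₀i, -⟩ := hF _ hB₀
      obtain ⟨hB₁A, hB₁i, -⟩ := hF _ hB₁
      obtain ⟨b, hb0, hb1⟩ := exists_notMem hq.out hB₁A hB₀i hB₁i hne01
      have hbA := hB₀A hb0
      let Z : Subgroup H := zpowers b
      have hZA : Z ≤ A := zpowers_le.2 hbA
      have hZN : Z ≤ normalizer (N : Set H) := hZA.trans hAN
      have hcop : (Nat.card Z).Coprime (Nat.card N) := by
        obtain ⟨m, hm⟩ := IsPGroup.iff_card.1 hN
        have h1 : orderOf b ∣ q := orderOf_dvd_of_pow_eq_one (hA.2 b hbA)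
        rw [hm]
        have h2 : Nat.card Z = orderOf b := Nat.card_zpowers b
        rw [h2]
        exact Nat.Coprime.coprime_dvd_left h1 (Nat.Coprime.pow_right m ((Nat.coprime_primes hq.out hs.out).2 hne.symm))
      have hmul := card_mul_of_coprime hNc hZN hcop
      have h1 := Lib.CoprimeAbelian.inf_commutator_eq_bot Z N hNc hZN hcop
      have h2 := Lib.CoprimeAbelian.sup_commutator_eq Z N hNc hZN hcop
      have hle1 : N ⊓ centralizer (Z : Set H) ≤ N := inf_le_left
      have hle2 : ⁅N, Z⁆ ≤ N := le_trans le_sup_right h2.le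
      -- the action of `A` on both parts
      have hA1 : A ≤ normalizer ((N ⊓ centralizer (Z : Set H) : Subgroup H) : Set H) := by
        intro a ha
        have key : ∀ a ∈ A, ∀ m ∈ N ⊓ centralizer (Z : Set H), a * m * a⁻¹ ∈ N ⊓ centralizer (Z : Set H) := by
          rintro a ha m ⟨hm, hmZ⟩
          refine ⟨(mem_normalizer_iff.1 (hAN ha) m).1 hm, mem_centralizer_iff.2 fun z hz => ?_⟩
          have hza : Commute z a := hAc z (hZA hz) a ha
          have hzm : Commute z m := mem_centralizer_iff.1 hmZ z hz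
          exact ((hza.mul_right hzm).mul_right hza.inv_right).eq
        rw [mem_normalizer_iff]
        intro m
        refine ⟨key a ha m, fun h5 => ?_⟩
        have h6 := key a⁻¹ (A.inv_mem ha) _ h5
        have e : a⁻¹ * (a * m * a⁻¹) * a⁻¹⁻¹ = m := by group
        rwa [e] at h6
      have hA2 : A ≤ normalizer ((⁅N, Z⁆ : Subgroup H) : Set H) := by
        intro a ha
        have key : ∀ a ∈ A, (⁅N, Z⁆ : Subgroup H).map (MulAut.conj a).toMonoidHom ≤ ⁅N, Z⁆ := by
          intro a ha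
          rw [map_commutator]
          refine commutator_mono ?_ ?_
          · rintro _ ⟨m, hm, rfl⟩
            exact (mem_normalizer_iff.1 (hAN ha) m).1 hm
          · rintro _ ⟨z, hz, rfl⟩
            have h5 : a * z * a⁻¹ = z := by rw [hAc a ha z (hZA hz), mul_inv_cancel_right]
            show a * z * a⁻¹ ∈ Z
            rw [h5]
            exact hz
        rw [mem_normalizer_iff]
        intro m
        refine ⟨fun h5 => key a ha ⟨m, h5, rfl⟩, fun h5 => ?_⟩
        have h6 : a⁻¹ * (a * m * a⁻¹) * a⁻¹⁻¹ ∈ (⁅N, Z⁆ : Subgroup H) := key a⁻¹ (A.inv_mem ha) ⟨_, h5, rfl⟩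
        have e : a⁻¹ * (a * m * a⁻¹) * a⁻¹⁻¹ = m := by group
        rwa [e] at h6
      -- the two sets of hyperplanes
      let F1 := F.filter (fun B => b ∈ B)
      let F2 := F.filter (fun B => b ∉ B)
      have hF12 : F1.card + F2.card = F.card := Finset.card_filter_add_card_filter_not _
      have hF1p : 0 < F1.card := Finset.card_pos.2 ⟨B₀, Finset.mem_filter.2 ⟨hB₀, hb0⟩⟩
      have hF2p : 0 < F2.card := Finset.card_pos.2 ⟨B₁, Finset.mem_filter.2 ⟨hB₁, hb1⟩⟩
      have r1 := ih (N ⊓ centralizer (Z : Set H)) F1 (by omega) (hN.to_le hle1)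
        (fun x hx y hy => hNc x (hle1 hx) y (hle1 hy)) hA1 (by
          intro B hB
          obtain ⟨hBF, hbB⟩ := Finset.mem_filter.1 hB
          obtain ⟨hBA, hBi, n, hn, hnA⟩ := hF B hBF
          refine ⟨hBA, hBi, n, ⟨⟨hn.1, ?_⟩, hn.2⟩, hnA⟩
          exact centralizer_le (zpowers_le.2 hbB : Z ≤ B) hn.2)
      have r2 := ih ⁅N, Z⁆ F2 (by omega) (hN.to_le hle2) (fun x hx y hy => hNc x (hle2 hx) y (hle2 hy)) hA2 (by
          intro B hB
          obtain ⟨hBF, hbB⟩ := Finset.mem_filter.1 hB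
          obtain ⟨hBA, hBi, n, hn, hnA⟩ := hF B hBF
          have hbn : ¬ b * n = n * b := fun h5 => hnA (mem_centralizer_of_hyp hq.out hBA hBi hbA hbB hn.2 h5)
          have h5 : ⁅n, b⁆ ∈ ⁅N, Z⁆ := commutator_mem_commutator hn.1 (mem_zpowers b)
          refine ⟨hBA, hBi, ⁅n, b⁆, ⟨h5, mem_centralizer_iff.2 fun c hc => ?_⟩, fun h6 => hbn ?_⟩
          · have hcn : Commute c n := mem_centralizer_iff.1 hn.2 c hc
            have hcb : Commute c b := hAc c (hBA hc) b hbA
            rw [commutatorElement_def]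
            exact (((hcn.mul_right hcb).mul_right hcn.inv_right).mul_right hcb.inv_right).eq
          · have h7 : ⁅n, b⁆ ∈ N ⊓ centralizer (Z : Set H) ⊓ ⁅N, Z⁆ :=
              ⟨⟨hle2 h5, centralizer_le hZA h6⟩, h5⟩
            rw [h1, mem_bot, commutatorElement_def, mul_inv_eq_one, mul_inv_eq_iff_eq_mul] at h7
            exact h7.symm)
      rw [← hmul, ← hF12, add_mul, pow_add]
      exact mul_dvd_mul r1 r2

/-- powers of an automorphism preserving a subgroup -/
theorem pow_inv {B : Subgroup H} {τ : MulAut H} (h : ∀ b ∈ B, τ b ∈ B) (k : ℕ) : ∀ b ∈ B, (τ ^ k) b ∈ B := by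
  induction k with
  | zero => intro b hb; exact hb
  | succ k ih =>
    intro b hb
    rw [pow_succ', MulAut.mul_apply]
    exact h _ (ih b hb)

/-- **The order of a faithful module with an automorphism of prime order.** -/
theorem pow_dvd_of_faithful_move {q s p : ℕ} [hq : Fact q.Prime] [hs : Fact s.Prime] [hp : Fact p.Prime] (hne : s ≠ q)
    (hpm : ¬ p ∣ orderOf (s : ZMod q)) {A N : Subgroup H} (hA : IsElementaryAbelian q A)
    (hNs : ∀ x ∈ N, x ^ s = 1) (hNc : ∀ x ∈ N, ∀ y ∈ N, x * y = y * x) (hAN : A ≤ normalizer (N : Set H))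
    (hf : A ⊓ centralizer (N : Set H) = ⊥) {τ : MulAut H} (hτA : ∀ a ∈ A, τ a ∈ A) (hτN : ∀ n ∈ N, τ n ∈ N)
    (hτp : ∀ a ∈ A, (τ ^ p) a = a) (hτ1 : ∃ a ∈ A, τ a ≠ a) : s ^ (p * orderOf (s : ZMod q)) ∣ Nat.card N := by
  classical
  have hAc : ∀ x ∈ A, ∀ y ∈ A, x * y = y * x := fun x hx y hy =>
    congrArg Subtype.val (hA.1.is_comm.comm (⟨x, hx⟩ : ↥A) ⟨y, hy⟩)
  have hN : IsPGroup s N := fun x => ⟨1, by
    rw [pow_one]
    exact Subtype.ext (hNs x x.2)⟩
  have hAq : IsPGroup q A := fun a => ⟨1, by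
    rw [pow_one]
    exact Subtype.ext (hA.2 a a.2)⟩
  have hcopN : (Nat.card N).Coprime q := by
    obtain ⟨m, hm⟩ := IsPGroup.iff_card.1 hN
    rw [hm]
    exact Nat.Coprime.pow_left m ((Nat.coprime_primes hs.out hq.out).2 hne)
  obtain ⟨a, ha, hτa⟩ := hτ1
  have hAne : A ≠ ⊥ := by
    rintro rfl
    rw [mem_bot] at ha
    exact hτa (by rw [ha, map_one])
  have hgen := Lib.CoprimeHyperplane.le_iSup_hyperplane A N hA hAne hcopN hAN
  -- the element `a₀`
  obtain ⟨a₀, ha₀⟩ : ∃ a₀, a₀ = a⁻¹ * τ a := ⟨_, rfl⟩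
  have ha₀A : a₀ ∈ A := ha₀ ▸ mul_mem (inv_mem ha) (hτA a ha)
  have ha₀1 : a₀ ≠ 1 := by
    intro h
    rw [h] at ha₀
    exact hτa (inv_mul_eq_one.1 ha₀.symm).symm
  obtain ⟨B, ⟨hBA, hBi, hBn⟩, haB⟩ : ∃ B, Hy q A N B ∧ a₀ ∉ B := by
    by_contra hcon
    push Not at hcon
    have h1 : N ≤ centralizer ({a₀} : Set H) := by
      rw [hgen]
      refine iSup_le fun B n hn => mem_centralizer_singleton_iff.2 ?_
      by_cases h2 : n ∈ centralizer (A : Set H)
      · exact (mem_centralizer_iff.1 h2 a₀ ha₀A).symm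
      · exact (mem_centralizer_iff.1 hn.2 a₀ (hcon B.1 ⟨B.2.1, B.2.2, n, hn, h2⟩)).symm
    have h2 : a₀ ∈ A ⊓ centralizer (N : Set H) :=
      ⟨ha₀A, mem_centralizer_iff.2 fun n hn => mem_centralizer_singleton_iff.1 (h1 hn)⟩
    rw [hf, mem_bot] at h2
    exact ha₀1 h2
  -- the images of `B`
  have himg : ∀ i : ℕ, Hy q A N (B.map (τ ^ i).toMonoidHom) := by
    intro i
    have hAm : A.map (τ ^ i).toMonoidHom = A := by
      apply eq_of_le_of_card_ge
      · rintro _ ⟨x, hx, rfl⟩
        exact pow_inv hτA i x hx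
      · rw [card_map_of_injective (f := (τ ^ i).toMonoidHom) (τ ^ i).injective]
    have hNm : N.map (τ ^ i).toMonoidHom = N := by
      apply eq_of_le_of_card_ge
      · rintro _ ⟨x, hx, rfl⟩
        exact pow_inv hτN i x hx
      · rw [card_map_of_injective (f := (τ ^ i).toMonoidHom) (τ ^ i).injective]
    refine ⟨?_, ?_, ?_⟩
    · rintro _ ⟨x, hx, rfl⟩
      exact pow_inv hτA i x (hBA hx)
    · have h1 : (B.map (τ ^ i).toMonoidHom).relIndex (A.map (τ ^ i).toMonoidHom) = B.relIndex A :=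
        relIndex_map_map_of_injective B A (f := (τ ^ i).toMonoidHom) (τ ^ i).injective
      rw [hAm, hBi] at h1
      exact h1
    · obtain ⟨n, hn, hnA⟩ := hBn
      refine ⟨(τ ^ i) n, ⟨pow_inv hτN i n hn.1, mem_centralizer_iff.2 ?_⟩, fun h1 => hnA (mem_centralizer_iff.2 fun x hx => ?_)⟩
      · rintro _ ⟨x, hx, rfl⟩
        have h1 := congrArg (τ ^ i) (mem_centralizer_iff.1 hn.2 x hx)
        rw [map_mul, map_mul] at h1
        exact h1
      · apply (τ ^ i).injective
        rw [map_mul, map_mul]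
        exact mem_centralizer_iff.1 h1 _ (pow_inv hτA i x hx)
  by_cases hBτ : B.map τ.toMonoidHom = B
  · -- `τ` acts on `A / B`
    have hτB : ∀ b ∈ B, τ b ∈ B := by
      intro b hb
      have h1 : τ b ∈ B.map τ.toMonoidHom := ⟨b, hb, rfl⟩
      rwa [hBτ] at h1
    have haBn : a ∉ B := by
      intro h
      apply haB
      rw [ha₀]
      exact mul_mem (inv_mem h) (hτB a h)
    -- powers of `a`
    have hpowa : ∀ x ∈ A, ∃ (k : ℕ) (b : H), b ∈ B ∧ x = a ^ k * b := by
      intro x hx
      have h1 : B ⊔ zpowers a = A := by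
        have h2 : B ≤ B ⊔ zpowers a := le_sup_left
        have h3 : B ⊔ zpowers a ≤ A := sup_le hBA (zpowers_le.2 ha)
        have h4 : B.relIndex (B ⊔ zpowers a) * (B ⊔ zpowers a).relIndex A = q := by
          rw [← hBi]; exact relIndex_mul_relIndex _ _ _ h2 h3
        have h5 : B.relIndex (B ⊔ zpowers a) ≠ 1 := by
          intro h6
          exact haBn (relIndex_eq_one.1 h6 (mem_sup_right (mem_zpowers a)))
        have h6 : (B ⊔ zpowers a).relIndex A = 1 := by
          rcases (Nat.dvd_prime hq.out).1 (Dvd.intro _ h4) with h7 | h7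
          · exact absurd h7 h5
          · rw [h7] at h4
            exact Nat.eq_of_mul_eq_mul_left hq.out.pos (by rw [h4, mul_one])
        exact le_antisymm h3 (relIndex_eq_one.1 h6)
      have h2 : zpowers a ≤ normalizer (B : Set H) := by
        rw [zpowers_le, mem_normalizer_iff]
        intro y
        have key : ∀ a ∈ A, ∀ y ∈ B, a * y * a⁻¹ ∈ B := by
          intro a ha y hy
          rw [hAc a ha y (hBA hy), mul_inv_cancel_right]
          exact hy
        refine ⟨key a ha y, fun h5 => ?_⟩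
        have h6 := key a⁻¹ (A.inv_mem ha) _ h5
        have e : a⁻¹ * (a * y * a⁻¹) * a⁻¹⁻¹ = y := by group
        rwa [e] at h6
      have h3 : x ∈ ((B ⊔ zpowers a : Subgroup H) : Set H) := by rw [h1]; exact hx
      rw [coe_mul_of_right_le_normalizer_left _ _ h2] at h3
      obtain ⟨b, hb, c, hc, e⟩ := h3
      obtain ⟨k, hk⟩ := (mem_powers_iff_mem_zpowers (x := a) (y := c)).2 hc
      have hk' : a ^ k = c := hk
      refine ⟨k, b, hb, ?_⟩
      rw [hk', ← hAc b (hBA hb) c (hk' ▸ pow_mem ha k)]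
      exact e.symm
    have hpB : ∀ k l : ℕ, a ^ k * (a ^ l)⁻¹ ∈ B → ((k : ℕ) : ZMod q) = ((l : ℕ) : ZMod q) := by
      intro k l h
      by_contra hkl
      apply haBn
      -- Bezout
      have h1 : a ^ ((k : ℤ) - l) ∈ B := by
        rw [zpow_sub, zpow_natCast, zpow_natCast]
        exact h
      have h2 : ¬ (q : ℤ) ∣ (k : ℤ) - l := by
        intro h2
        apply hkl
        have h3 := (ZMod.intCast_zmod_eq_zero_iff_dvd ((k : ℤ) - l) q).2 h2
        push_cast at h3
        exact sub_eq_zero.1 h3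
      have h3 : IsCoprime ((k : ℤ) - l) (q : ℤ) :=
        ((Nat.prime_iff_prime_int.1 hq.out).irreducible.coprime_iff_not_dvd.2 h2).symm
      obtain ⟨u, v, huv⟩ := h3
      have h4 : a = (a ^ ((k : ℤ) - l)) ^ u * (a ^ (q : ℤ)) ^ v := by
        rw [← zpow_mul, ← zpow_mul, ← zpow_add]
        have e : ((k : ℤ) - l) * u + (q : ℤ) * v = 1 := by rw [← huv]; ring
        rw [e, zpow_one]
      rw [h4, zpow_natCast a q, hA.2 a ha, one_zpow, mul_one]
      exact zpow_mem h1 u
    obtain ⟨j, b₁, hb₁, hj⟩ := hpowa (τ a) (hτA a ha)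
    -- the order of `j`
    have hjn : ∀ n : ℕ, ∃ b ∈ B, (τ ^ n) a = a ^ j ^ n * b := by
      intro n
      induction n with
      | zero => exact ⟨1, one_mem B, by simp⟩
      | succ n ih =>
        obtain ⟨b, hb, e⟩ := ih
        refine ⟨b₁ ^ j ^ n * τ b, mul_mem (pow_mem hb₁ _) (hτB b hb), ?_⟩
        rw [pow_succ', MulAut.mul_apply, e, map_mul, map_pow, hj, Commute.mul_pow (hAc _ (pow_mem ha j) _ (hBA hb₁)),
          ← pow_mul, pow_succ' j n]
        group
    have hjo : orderOf (j : ZMod q) = p := by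
      apply orderOf_eq_prime
      · obtain ⟨b, hb, e⟩ := hjn p
        rw [hτp a ha] at e
        have h1 : a ^ 1 * (a ^ j ^ p)⁻¹ ∈ B := by
          have h2 : a ^ 1 * (a ^ j ^ p)⁻¹ = b := by
            rw [pow_one]
            have h3 := hAc _ (pow_mem ha (j ^ p)) b (hBA hb)
            nth_rw 1 [e]
            rw [h3, mul_inv_cancel_right]
          rw [h2]
          exact hb
        have h2 := hpB _ _ h1
        rw [Nat.cast_pow, Nat.cast_one] at h2
        exact h2.symm
      · intro h1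
        apply haB
        have h2 : a ^ q = 1 := hA.2 a ha
        have h3 : a ^ j = a := by
          have h4 : j ≡ 1 [MOD q] := by
            rw [← Nat.cast_one] at h1
            exact (ZMod.natCast_eq_natCast_iff _ _ _).1 h1
          have h5 : orderOf a ∣ q := orderOf_dvd_of_pow_eq_one h2
          have h6 : a ^ j = a ^ 1 := pow_eq_pow_iff_modEq.2 (h4.of_dvd h5)
          rwa [pow_one] at h6
        rw [ha₀, hj, h3, inv_mul_cancel_left]
        exact hb₁
    -- the module
    have hBN : B ≤ normalizer (N : Set H) := hBA.trans hAN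
    have hcB : ∀ a ∈ A, ∀ m ∈ N ⊓ centralizer (B : Set H), a * m * a⁻¹ ∈ N ⊓ centralizer (B : Set H) := by
      rintro a ha m ⟨hm, hmB⟩
      refine ⟨(mem_normalizer_iff.1 (hAN ha) m).1 hm, mem_centralizer_iff.2 fun b hb => ?_⟩
      have hab : Commute b a := hAc b (hBA hb) a ha
      have hbm : Commute b m := mem_centralizer_iff.1 hmB b hb
      exact ((hab.mul_right hbm).mul_right hab.inv_right).eq
    obtain ⟨M, hM⟩ : ∃ M : Subgroup H, M = N ⊓ centralizer (B : Set H) := ⟨_, rfl⟩
    have hMN : M ≤ N := hM ▸ inf_le_left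
    let Z : Subgroup H := zpowers a
    have hZM : Z ≤ normalizer (M : Set H) := by
      rw [show Z = zpowers a from rfl, zpowers_le, mem_normalizer_iff, hM]
      intro y
      refine ⟨hcB a ha y, fun h5 => ?_⟩
      have h6 := hcB a⁻¹ (A.inv_mem ha) _ h5
      have e : a⁻¹ * (a * y * a⁻¹) * a⁻¹⁻¹ = y := by group
      rwa [e] at h6
    have hcop : (Nat.card Z).Coprime (Nat.card M) := by
      obtain ⟨m, hm⟩ := IsPGroup.iff_card.1 (hN.to_le hMN)
      have h1 : orderOf a ∣ q := orderOf_dvd_of_pow_eq_one (hA.2 a ha)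
      rw [hm]
      have h2 : Nat.card Z = orderOf a := Nat.card_zpowers a
      rw [h2]
      exact Nat.Coprime.coprime_dvd_left h1 (Nat.Coprime.pow_right m ((Nat.coprime_primes hq.out hs.out).2 hne.symm))
    have hMc : ∀ x ∈ M, ∀ y ∈ M, x * y = y * x := fun x hx y hy => hNc x (hMN hx) y (hMN hy)
    have h1 := Lib.CoprimeAbelian.inf_commutator_eq_bot Z M hMc hZM hcop
    have h2 := Lib.CoprimeAbelian.sup_commutator_eq Z M hMc hZM hcop
    obtain ⟨W, hW⟩ : ∃ W : Subgroup H, W = ⁅M, Z⁆ := ⟨_, rfl⟩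
    have hWM : W ≤ M := hW ▸ le_trans le_sup_right h2.le
    have hWne : W ≠ ⊥ := by
      intro h3
      obtain ⟨n, hn, hnA⟩ := hBn
      apply hnA
      refine mem_centralizer_of_hyp hq.out hBA hBi ha haBn hn.2 ?_
      have h4 : ⁅n, a⁆ ∈ W := hW ▸ commutator_mem_commutator (hM ▸ hn) (mem_zpowers a)
      rw [h3, mem_bot, commutatorElement_def, mul_inv_eq_one, mul_inv_eq_iff_eq_mul] at h4
      exact h4.symm
    -- the actions on `W`
    have hWa : ∀ w ∈ W, MulAut.conj a w ∈ W := by
      intro w hw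
      show a * w * a⁻¹ ∈ W
      have h3 : Z ≤ normalizer ((⁅M, Z⁆ : Subgroup H) : Set H) := normalizer_commutator_ge_right M Z
      rw [hW] at hw ⊢
      exact (mem_normalizer_iff.1 (h3 (mem_zpowers a)) w).1 hw
    have hWB : ∀ w ∈ W, ∀ b ∈ B, b * w = w * b := by
      intro w hw b hb
      have h3 := hWM hw
      rw [hM] at h3
      exact mem_centralizer_iff.1 h3.2 b hb
    have hWτ : ∀ w ∈ W, τ w ∈ W := by
      -- `τ` maps `[M, a]` to `[M, a]`
      have hMτ : ∀ m ∈ M, τ m ∈ M := by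
        intro m hm
        rw [hM] at hm ⊢
        refine ⟨hτN m hm.1, mem_centralizer_iff.2 fun b hb => ?_⟩
        have h3 : b ∈ B.map τ.toMonoidHom := by rw [hBτ]; exact hb
        obtain ⟨b', hb', rfl⟩ := h3
        have h4 := congrArg τ (mem_centralizer_iff.1 hm.2 b' hb')
        rw [map_mul, map_mul] at h4
        exact h4
      have h3 : (⁅M, Z⁆ : Subgroup H).map τ.toMonoidHom ≤ ⁅M, Z⁆ := by
        rw [map_commutator, commutator_le]
        rintro _ ⟨m, hm, rfl⟩ _ ⟨_, ⟨i, rfl⟩, rfl⟩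
        show ⁅τ m, τ (a ^ i)⁆ ∈ ⁅M, Z⁆
        have h4 : τ (a ^ i) = (a ^ j) ^ i * b₁ ^ i := by
          rw [map_zpow, hj, Commute.mul_zpow (hAc _ (pow_mem ha j) _ (hBA hb₁))]
        have h5 : ⁅τ m, τ (a ^ i)⁆ = ⁅τ m, (a ^ j) ^ i⁆ := by
          have h6 : Commute (b₁ ^ i) (τ m) := by
            have h7 := hMτ m hm
            rw [hM] at h7
            exact (show Commute b₁ (τ m) from mem_centralizer_iff.1 h7.2 b₁ hb₁).zpow_left i
          rw [commutatorElement_def, commutatorElement_def, h4]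
          have h7 : Commute (b₁ ^ i) (τ m)⁻¹ := h6.inv_right
          calc τ m * ((a ^ j) ^ i * b₁ ^ i) * (τ m)⁻¹ * ((a ^ j) ^ i * b₁ ^ i)⁻¹
              = τ m * (a ^ j) ^ i * (b₁ ^ i * (τ m)⁻¹) * (b₁ ^ i)⁻¹ * ((a ^ j) ^ i)⁻¹ := by group
            _ = τ m * (a ^ j) ^ i * ((τ m)⁻¹ * b₁ ^ i) * (b₁ ^ i)⁻¹ * ((a ^ j) ^ i)⁻¹ := by rw [h7.eq]
            _ = _ := by group
        rw [h5]
        exact commutator_mem_commutator (hMτ m hm) (zpow_mem (pow_mem (mem_zpowers a) j) i)
      intro w hw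
      rw [hW] at hw ⊢
      exact h3 ⟨w, hw, rfl⟩
    have hnt : Nontrivial ↥W := (nontrivial_iff_ne_bot W).2 hWne
    have hfin := pow_dvd_of_aut (s := s) (q := q) (p := p) hp.out (N := ↥W)
      (fun x y => Subtype.ext (hMc x (hWM x.2) y (hWM y.2))) (fun x => Subtype.ext (hNs x (hMN (hWM x.2))))
      (f := resA (MulAut.conj a) W hWa) (t := resA τ W hWτ) ?_ ?_ (j := j) ?_ hjo hpm
    · exact hfin.trans (card_dvd_of_le (hWM.trans hMN))
    · intro x
      apply Subtype.ext
      rw [resA_pow_coe, ← map_pow, hA.2 a ha, map_one]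
      rfl
    · intro x hx
      have h3 : a * x * a⁻¹ = x := congrArg Subtype.val hx
      have h4 : (x : H) ∈ M ⊓ centralizer (Z : Set H) ⊓ ⁅M, Z⁆ := by
        refine ⟨⟨hWM x.2, mem_centralizer_iff.2 ?_⟩, hW ▸ x.2⟩
        rintro _ ⟨i, rfl⟩
        exact ((show Commute a (x : H) from mul_inv_eq_iff_eq_mul.1 h3).zpow_left i).eq
      rw [h1, mem_bot] at h4
      exact Subtype.ext h4
    · intro x
      apply Subtype.ext
      rw [resA_coe, resA_coe, resA_pow_coe, ← map_pow, MulAut.conj_apply, MulAut.conj_apply, map_mul, map_mul, map_inv, hj,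
        resA_coe]
      have h3 : Commute b₁ (τ (x : H)) := hWB _ (hWτ x x.2) b₁ hb₁
      calc a ^ j * b₁ * τ (x : H) * (a ^ j * b₁)⁻¹ = a ^ j * (b₁ * τ (x : H)) * b₁⁻¹ * (a ^ j)⁻¹ := by group
        _ = a ^ j * (τ (x : H) * b₁) * b₁⁻¹ * (a ^ j)⁻¹ := by rw [h3.eq]
        _ = _ := by group
  · -- the orbit of `B`
    have hinj : Set.InjOn (fun i : ℕ => B.map (τ ^ i).toMonoidHom) (Finset.range p : Set ℕ) := by
      have key : ∀ i i' : ℕ, i < i' → i' < p → B.map (τ ^ i).toMonoidHom = B.map (τ ^ i').toMonoidHom → False := by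
        intro i i' hlt hi' h
        apply hBτ
        -- `τ ^ d` fixes `B`
        obtain ⟨d, rfl⟩ := Nat.exists_eq_add_of_lt hlt
        have h1 : B = B.map (τ ^ (d + 1)).toMonoidHom := by
          have h2 : B.map (τ ^ (i + d + 1)).toMonoidHom = (B.map (τ ^ (d + 1)).toMonoidHom).map (τ ^ i).toMonoidHom := by
            rw [map_map]
            congr 1
            ext x
            show (τ ^ (i + d + 1)) x = (τ ^ i) ((τ ^ (d + 1)) x)
            rw [← MulAut.mul_apply, ← pow_add, add_assoc]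
          rw [h2] at h
          exact map_injective (f := (τ ^ i).toMonoidHom) (τ ^ i).injective h
        have h2 : ∀ n : ℕ, B.map (τ ^ ((d + 1) * n)).toMonoidHom = B := by
          intro n
          induction n with
          | zero =>
            ext x
            simp
          | succ n ih =>
            have h3 : B.map (τ ^ ((d + 1) * (n + 1))).toMonoidHom =
                (B.map (τ ^ (d + 1)).toMonoidHom).map (τ ^ ((d + 1) * n)).toMonoidHom := by
              rw [map_map]
              congr 1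
              ext x
              show (τ ^ ((d + 1) * (n + 1))) x = (τ ^ ((d + 1) * n)) ((τ ^ (d + 1)) x)
              rw [← MulAut.mul_apply, ← pow_add, mul_add, mul_one]
            rw [h3, ← h1, ih]
        have hcop : (d + 1).Coprime p := by
          rw [Nat.coprime_comm, Nat.Prime.coprime_iff_not_dvd hp.out]
          intro h3
          have := Nat.le_of_dvd (by omega) h3
          omega
        obtain ⟨n, hn⟩ : ∃ n : ℕ, (d + 1) * n ≡ 1 [MOD p] := by
          obtain ⟨n, -, hn⟩ := Nat.exists_mul_mod_eq_one_of_coprime hcop hp.out.one_lt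
          exact ⟨n, by rw [Nat.ModEq, hn, Nat.mod_eq_of_lt hp.out.one_lt]⟩
        have h3 : ∀ k l : ℕ, k ≡ l [MOD p] → ∀ x ∈ A, (τ ^ k) x = (τ ^ l) x := by
          have h4 : ∀ k : ℕ, ∀ x ∈ A, (τ ^ k) x = (τ ^ (k % p)) x := by
            intro k x hx
            have h5 : ∀ m : ℕ, ∀ x ∈ A, (τ ^ (p * m)) x = x := by
              intro m
              induction m with
              | zero => intro x _; rfl
              | succ m ih =>
                intro x hx
                rw [mul_add, mul_one, pow_add, MulAut.mul_apply, hτp x hx, ih x hx]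
            conv_lhs => rw [← Nat.mod_add_div k p, pow_add, MulAut.mul_apply, h5 _ x hx]
          intro k l hkl x hx
          rw [h4 k x hx, h4 l x hx, hkl]
        ext x
        have h4 := h2 n
        constructor
        · rintro ⟨y, hy, rfl⟩
          have h5 : (τ ^ ((d + 1) * n)) y ∈ B.map (τ ^ ((d + 1) * n)).toMonoidHom := ⟨y, hy, rfl⟩
          rw [h4, h3 _ _ hn y (hBA hy), pow_one] at h5
          exact h5
        · intro hx
          rw [← h4] at hx
          obtain ⟨y, hy, rfl⟩ := hx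
          refine ⟨y, hy, ?_⟩
          show τ y = (τ ^ ((d + 1) * n)) y
          rw [h3 _ _ hn y (hBA hy), pow_one]
      intro i hi i' hi' h
      rcases lt_trichotomy i i' with h1 | h1 | h1
      · exact (key i i' h1 (Finset.mem_range.1 hi') h).elim
      · exact h1
      · exact (key i' i h1 (Finset.mem_range.1 hi) h.symm).elim
    have h1 := pow_dvd_of_hyps hne hA p N ((Finset.range p).image fun i : ℕ => B.map (τ ^ i).toMonoidHom)
      (by rw [Finset.card_image_of_injOn hinj, Finset.card_range]) hN hNc hAN (by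
        intro C hC
        obtain ⟨i, -, rfl⟩ := Finset.mem_image.1 hC
        exact himg i)
    rwa [Finset.card_image_of_injOn hinj, Finset.card_range] at h1

end Cfsg.Agent.H979.Ccp
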