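import Cfsg.Agent.H520.CcpBasic
import Cfsg.Agent.Lib.CoprimeHyperplane
import Cfsg.Agent.Lib.CoprimeAbelian
import Cfsg.Agent.Lib.ProductSet

/-!
# Orders of modules for elementary abelian groups (helper979)

* `card_fixA_modEq` : `|C_K(σ)| ≡ |K|` modulo `p` for a `p`-automorphism `σ`;
* `pow_dvd_of_faithful` : an elementary abelian group of order divisible by `q ^ k` acting faithfully on an abelian
  `s`-group `N`: `s ^ (k * ord_q(s))` divides `|N|`;
* `pow_dvd_of_move` : a nontrivial `p`-automorphism of a `q`-group `A`: `q ^ ord_p(q)` divides `|A|`.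
-/

set_option autoImplicit false

namespace Cfsg.Agent.H979.Ccp

open Subgroup Cfsg Cfsg.Agent.H520

section

variable {K : Type*} [Group K]

/-- `|C_K(σ)| ≡ |K|` modulo `p` for a `p`-automorphism `σ`. -/
theorem card_fixA_modEq [Finite K] {p : ℕ} [hp : Fact p.Prime] {σ : MulAut K} (hσ : ∃ j : ℕ, orderOf σ = p ^ j) :
    Nat.card K ≡ Nat.card (fixA σ) [MOD p] := by
  obtain ⟨j, hj⟩ := hσ
  have h1 : IsPGroup p (zpowers σ) := IsPGroup.of_card (n := j) (by rw [Nat.card_zpowers, hj])
  have h2 := h1.card_modEq_card_fixedPoints K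
  have h3 : Nat.card (MulAction.fixedPoints (zpowers σ) K) = Nat.card (fixA σ) := by
    refine Nat.card_congr (Equiv.subtypeEquivRight fun g => ?_)
    constructor
    · intro hg
      exact hg ⟨σ, mem_zpowers σ⟩
    · rintro hg ⟨_, i, rfl⟩
      have h4 : ∀ i : ℤ, (σ ^ i : MulAut K) g = g := by
        intro i
        have h5 : σ ∈ MulAction.stabilizer (MulAut K) g := hg
        exact zpow_mem h5 i
      exact h4 i
  rwa [h3] at h2

theorem exists_pow_order {p : ℕ} [hp : Fact p.Prime] {M : Type*} [Monoid M] {x : M} {j : ℕ} (h : x ^ p ^ j = 1) :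
    ∃ i : ℕ, orderOf x = p ^ i := by
  obtain ⟨i, -, hi⟩ := (Nat.dvd_prime_pow hp.out).1 (orderOf_dvd_of_pow_eq_one h)
  exact ⟨i, hi⟩

/-- `s ^ m ≡ s ^ n` modulo `q` -/
theorem ord_dvd_sub {q s m n : ℕ} [hq : Fact q.Prime] (hsq : ¬ q ∣ s) (hmn : n ≤ m)
    (h : s ^ m ≡ s ^ n [MOD q]) : orderOf (s : ZMod q) ∣ m - n := by
  apply orderOf_dvd_of_pow_eq_one
  have h1 : ((s ^ m : ℕ) : ZMod q) = ((s ^ n : ℕ) : ZMod q) := (ZMod.natCast_eq_natCast_iff _ _ _).2 h
  rw [Nat.cast_pow, Nat.cast_pow] at h1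
  have h2 : (s : ZMod q) ≠ 0 := by
    intro h3
    exact hsq ((ZMod.natCast_eq_zero_iff _ _).1 h3)
  have h3 : (s : ZMod q) ^ n * (s : ZMod q) ^ (m - n) = (s : ZMod q) ^ n * 1 := by
    rw [← pow_add, Nat.add_sub_cancel' hmn, h1, mul_one]
  exact mul_left_cancel₀ (pow_ne_zero n h2) h3

theorem not_dvd_of_ne {q s : ℕ} (hq : q.Prime) (hs : s.Prime) (hne : s ≠ q) : ¬ q ∣ s := by
  intro h
  exact hne ((Nat.prime_dvd_prime_iff_eq hq hs).1 h).symm

/-- A nontrivial `p`-automorphism of a `q`-group `A`: `q ^ ord_p(q)` divides `|A|`. -/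
theorem pow_dvd_of_move [Finite K] {p q : ℕ} [hp : Fact p.Prime] [hq : Fact q.Prime] (hne : q ≠ p)
    (hK : IsPGroup q K) {σ : MulAut K} (hσ : ∃ j : ℕ, orderOf σ = p ^ j) (h1 : σ ≠ 1) :
    q ^ orderOf (q : ZMod p) ∣ Nat.card K := by
  obtain ⟨m, hm⟩ := IsPGroup.iff_card.1 hK
  obtain ⟨n, hn⟩ := IsPGroup.iff_card.1 (hK.to_subgroup (fixA σ))
  have h2 := card_fixA_modEq (p := p) hσ
  rw [hm, hn] at h2
  have h3 : Nat.card (fixA σ) ≠ Nat.card K := by
    intro h3
    apply h1
    have h4 : fixA σ = ⊤ := Subgroup.eq_top_of_card_eq _ h3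
    ext g
    have : g ∈ fixA σ := by rw [h4]; trivial
    exact this
  have h4 : n ≤ m := by
    have h5 := (fixA σ).card_subgroup_dvd_card
    rw [hm, hn] at h5
    exact (Nat.pow_dvd_pow_iff_le_right hq.out.one_lt).1 h5
  have h5 : n ≠ m := by
    rintro rfl
    exact h3 (hn.trans hm.symm)
  have h6 := Nat.le_of_dvd (by omega) (ord_dvd_sub (not_dvd_of_ne hp.out hq.out hne) h4 h2)
  rw [hm]
  exact pow_dvd_pow q (by omega)

end

section rank

variable {H : Type*} [Group H] [Finite H]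

/-- the step of the induction: the fixed points of a hyperplane -/
theorem card_step {q s : ℕ} [hq : Fact q.Prime] [hs : Fact s.Prime] (hne : s ≠ q) {N1 : Subgroup H}
    (hN1 : IsPGroup s N1) {a : H} (haq : a ^ q = 1) (han : ∀ n ∈ N1, a * n * a⁻¹ ∈ N1)
    (hmv : ∃ n ∈ N1, a * n ≠ n * a) : s ^ orderOf (s : ZMod q) ∣ Nat.card N1 := by
  refine pow_dvd_of_move (p := q) (q := s) (K := N1) hne hN1 (σ := resA (MulAut.conj a) N1 han) ?_ ?_
  · apply exists_pow_order (p := q) (j := 1)
    rw [pow_one]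
    have h1 : (MulAut.conj a) ^ q = 1 := by rw [← map_pow, haq, map_one]
    have h2 := orderOf_resA_dvd (MulAut.conj a) N1 han
    have h3 : orderOf (MulAut.conj a) ∣ q := orderOf_dvd_of_pow_eq_one h1
    exact orderOf_dvd_iff_pow_eq_one.1 (h2.trans h3)
  · intro h1
    obtain ⟨n, hn, hn1⟩ := hmv
    apply hn1
    have h2 : (resA (MulAut.conj a) N1 han ⟨n, hn⟩ : H) = n := by rw [h1]; rfl
    have h3 : a * n * a⁻¹ = n := h2
    exact mul_inv_eq_iff_eq_mul.1 h3

/-- **The order of a faithful module.** -/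
theorem pow_dvd_of_faithful {q s : ℕ} [hq : Fact q.Prime] [hs : Fact s.Prime] (hne : s ≠ q) (k : ℕ) :
    ∀ A N : Subgroup H, IsElementaryAbelian q A → IsPGroup s N → (∀ x ∈ N, ∀ y ∈ N, x * y = y * x) →
      A ≤ normalizer (N : Set H) → A ⊓ centralizer (N : Set H) = ⊥ → q ^ k ∣ Nat.card A →
      s ^ (k * orderOf (s : ZMod q)) ∣ Nat.card N := by
  induction k with
  | zero =>
    intro A N _ _ _ _ _ _
    rw [zero_mul, pow_zero]
    exact one_dvd _
  | succ k ih =>
    intro A N hA hN hNc hAN hf hk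
    have hAne : A ≠ ⊥ := by
      rintro rfl
      rw [card_bot] at hk
      have h1 := Nat.le_of_dvd one_pos hk
      have h2 : 1 < q ^ (k + 1) := Nat.one_lt_pow (Nat.succ_ne_zero k) hq.out.one_lt
      omega
    have hAq : IsPGroup q A := fun a => ⟨1, by
      rw [pow_one]
      exact Subtype.ext (hA.2 a a.2)⟩
    have hcopN : (Nat.card N).Coprime q := by
      obtain ⟨m, hm⟩ := IsPGroup.iff_card.1 hN
      rw [hm]
      exact Nat.Coprime.pow_left m ((Nat.coprime_primes hs.out hq.out).2 hne)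
    have hgen := Lib.CoprimeHyperplane.le_iSup_hyperplane A N hA hAne hcopN hAN
    -- a hyperplane with more fixed points
    obtain ⟨B, hBA, hBi, n, hn, hnA⟩ : ∃ B : Subgroup H, B ≤ A ∧ B.relIndex A = q ∧
        ∃ n ∈ N ⊓ centralizer (B : Set H), n ∉ centralizer (A : Set H) := by
      by_contra hcon
      push Not at hcon
      have h1 : N ≤ centralizer (A : Set H) := by
        rw [hgen]
        exact iSup_le fun B => fun n hn => hcon B.1 B.2.1 B.2.2 n hn
      have h2 : A ≤ centralizer (N : Set H) := le_centralizer_iff.1 h1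
      rw [inf_eq_left.2 h2] at hf
      exact hAne hf
    have hBN : B ≤ normalizer (N : Set H) := hBA.trans hAN
    have hcopB : (Nat.card B).Coprime (Nat.card N) := by
      obtain ⟨m, hm⟩ := IsPGroup.iff_card.1 (hAq.to_le hBA)
      rw [hm]
      exact Nat.Coprime.pow_left m hcopN.symm
    have h1 := Lib.CoprimeAbelian.inf_commutator_eq_bot B N hNc hBN hcopB
    have h2 := Lib.CoprimeAbelian.sup_commutator_eq B N hNc hBN hcopB
    have hle1 : N ⊓ centralizer (B : Set H) ≤ N := inf_le_left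
    have hle2 : ⁅N, B⁆ ≤ N := le_trans le_sup_right h2.le
    -- the order of the fixed points
    have hc1 : s ^ orderOf (s : ZMod q) ∣ Nat.card ↥(N ⊓ centralizer (B : Set H) : Subgroup H) := by
      obtain ⟨a, ha, han⟩ : ∃ a ∈ A, a * n ≠ n * a := by
        by_contra hcon
        push Not at hcon
        exact hnA (mem_centralizer_iff.2 hcon)
      refine card_step hne (hN.to_le hle1) (a := a) (hA.2 a ha) ?_ ⟨n, hn, han⟩
      rintro m ⟨hm, hmB⟩
      refine ⟨(mem_normalizer_iff.1 (hAN ha) m).1 hm, mem_centralizer_iff.2 fun b hb => ?_⟩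
      have hab : Commute b a := congrArg Subtype.val (hA.1.is_comm.comm (⟨b, hBA hb⟩ : ↥A) ⟨a, ha⟩)
      have hbm : Commute b m := mem_centralizer_iff.1 hmB b hb
      exact ((hab.mul_right hbm).mul_right hab.inv_right).eq
    -- the order of the commutator
    have hc2 : s ^ (k * orderOf (s : ZMod q)) ∣ Nat.card ↥(⁅N, B⁆ : Subgroup H) := by
      refine ih B ⁅N, B⁆ ⟨?_, fun b hb => hA.2 b (hBA hb)⟩ (hN.to_le hle2)
        (fun x hx y hy => hNc x (hle2 hx) y (hle2 hy)) ?_ ?_ ?_
      · refine ⟨⟨fun x y => Subtype.ext ?_⟩⟩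
        have h3 := hA.1.is_comm.comm (⟨x, hBA x.2⟩ : ↥A) ⟨y, hBA y.2⟩
        exact congrArg (fun z : ↥A => (z : H)) h3
      · exact normalizer_commutator_ge_right N B
      · rw [eq_bot_iff, ← hf]
        rintro b ⟨hb, hbc⟩
        refine ⟨hBA hb, ?_⟩
        have h3 : N ≤ centralizer ({b} : Set H) := by
          refine h2.symm.le.trans (sup_le ?_ ?_)
          · rintro m ⟨-, hm⟩
            exact mem_centralizer_singleton_iff.2 (mem_centralizer_iff.1 hm b hb).symm
          · intro m hm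
            exact mem_centralizer_singleton_iff.2 (mem_centralizer_iff.1 hbc m hm)
        exact mem_centralizer_iff.2 fun m hm => mem_centralizer_singleton_iff.1 (h3 hm)
      · have h3 := (B.subgroupOf A).card_mul_index
        rw [Nat.card_congr (subgroupOfEquivOfLe hBA).toEquiv] at h3
        have h4 : (B.subgroupOf A).index = q := hBi
        rw [h4] at h3
        rw [← h3, pow_succ] at hk
        exact Nat.dvd_of_mul_dvd_mul_right hq.out.pos hk
    have hmul : Nat.card ↥(N ⊓ centralizer (B : Set H) : Subgroup H) * Nat.card ↥(⁅N, B⁆ : Subgroup H) = Nat.card ↥N := by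
      have h3 := Lib.ProductSet.card_mul_card_inf (N ⊓ centralizer (B : Set H)) ⁅N, B⁆
      have h4 : ⁅N, B⁆ ≤ normalizer ((N ⊓ centralizer (B : Set H) : Subgroup H) : Set H) := by
        intro c hc
        rw [mem_normalizer_iff]
        intro m
        have key : ∀ c ∈ N, ∀ m ∈ N ⊓ centralizer (B : Set H), c * m * c⁻¹ ∈ N ⊓ centralizer (B : Set H) := by
          intro c hc m hm
          rw [hNc c hc m hm.1, mul_inv_cancel_right]
          exact hm
        refine ⟨key c (hle2 hc) m, fun h5 => ?_⟩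
        have h6 := key c⁻¹ (N.inv_mem (hle2 hc)) _ h5
        have e : c⁻¹ * (c * m * c⁻¹) * c⁻¹⁻¹ = m := by group
        rwa [e] at h6
      rw [← coe_mul_of_right_le_normalizer_left _ _ h4, h2, h1, card_bot, mul_one] at h3
      exact h3.symm
    rw [← hmul, add_mul, one_mul, pow_add, mul_comm]
    exact mul_dvd_mul hc1 hc2

end rank

end Cfsg.Agent.H979.Ccp
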