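import Cfsg.Agent.H979.Ccp.Zst
import Cfsg.Agent.H979.Ccp.Rank

/-!
# Invariant Sylow subgroups of solvable groups for automorphisms with `CCP` (helper979)

* `NumOK q n o` : the numerical condition;
* `exists_sylow_inv` : `X` solvable, `CCP α`, `q ∤ |α|`, `NumOK q |X| |α|`: `α` normalises a Sylow `q`-subgroup of `X`.
-/

set_option autoImplicit false
set_option linter.unusedSectionVars false

namespace Cfsg.Agent.H979.Ccp

open Subgroup Cfsg Cfsg.Agent.H520
open scoped Pointwise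

universe u

/-- the numerical condition -/
def NumOK (q n o : ℕ) : Prop := ∀ s p : ℕ, s.Prime → p.Prime → s ∣ o → p ∣ o → s ≠ q → p ≠ q → p ≠ s →
  ¬ s ^ (orderOf (q : ZMod p) * orderOf (s : ZMod q)) ∣ n

theorem NumOK.mono {q n o n' o' : ℕ} (h : NumOK q n o) (hn : n' ∣ n) (ho : o' ∣ o) : NumOK q n' o' :=
  fun s p hs hp h1 h2 h3 h4 h5 h6 => h s p hs hp (h1.trans ho) (h2.trans ho) h3 h4 h5 (h6.trans hn)

section

variable {X : Type u} [Group X] [Finite X]

/-- minimal invariant normal subgroups of solvable groups -/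
theorem min_elem (hs : Group.IsSolvable X) {α : MulAut X} {N : Subgroup X} (hNb : N ≠ ⊥) (hNn : N.Normal)
    (hNi : ∀ m ∈ N, α m ∈ N)
    (hmin : ∀ M : Subgroup X, M ≤ N → M ≠ ⊥ → M.Normal → (∀ m ∈ M, α m ∈ M) → M = N) :
    ∃ s : ℕ, s.Prime ∧ (∀ x ∈ N, ∀ y ∈ N, x * y = y * x) ∧ ∀ x ∈ N, x ^ s = 1 := by
  have hab : ∀ x ∈ N, ∀ y ∈ N, x * y = y * x := by
    have h1 : (⁅N, N⁆ : Subgroup X) < N := Group.IsSolvable.commutator_lt_of_ne_bot hNb
    have h2 : (⁅N, N⁆ : Subgroup X) = ⊥ := by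
      by_contra h3
      refine h1.ne (hmin _ h1.le h3 inferInstance ?_)
      have h4 : (⁅N, N⁆ : Subgroup X).map α.toMonoidHom ≤ ⁅N, N⁆ := by
        rw [map_commutator]
        have h5 : N.map α.toMonoidHom ≤ N := by
          rintro _ ⟨n, hn, rfl⟩
          exact hNi n hn
        exact commutator_mono h5 h5
      intro m hm
      exact h4 ⟨m, hm, rfl⟩
    intro x hx y hy
    have h3 := commutator_mem_commutator hx hy
    rw [h2, mem_bot, commutatorElement_def, mul_inv_eq_one, mul_inv_eq_iff_eq_mul] at h3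
    exact h3
  have hne : Nat.card N ≠ 1 := fun h => hNb (card_eq_one.1 h)
  obtain ⟨s, hs, hsd⟩ := Nat.exists_prime_and_dvd hne
  refine ⟨s, hs, hab, ?_⟩
  have : Fact s.Prime := ⟨hs⟩
  let M : Subgroup X :=
    { carrier := {x | x ∈ N ∧ x ^ s = 1}
      one_mem' := ⟨one_mem N, one_pow s⟩
      mul_mem' := by
        rintro a b ⟨ha, ha1⟩ ⟨hb, hb1⟩
        exact ⟨mul_mem ha hb, by rw [Commute.mul_pow (hab a ha b hb), ha1, hb1, one_mul]⟩
      inv_mem' := by
        rintro a ⟨ha, ha1⟩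
        exact ⟨inv_mem ha, by rw [inv_pow, ha1, inv_one]⟩ }
  have hM : M = N := by
    apply hmin
    · exact fun x hx => hx.1
    · obtain ⟨x, hx⟩ := exists_prime_orderOf_dvd_card' s hsd
      intro h1
      have h2 : (x : X) ∈ M := ⟨x.2, by
        have h3 : x ^ s = 1 := by rw [← hx]; exact pow_orderOf_eq_one x
        exact congrArg Subtype.val h3⟩
      rw [h1, mem_bot] at h2
      have h3 : x = 1 := Subtype.ext h2
      rw [h3, orderOf_one] at hx
      exact hs.one_lt.ne hx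
    · refine ⟨fun x hx g => ⟨hNn.conj_mem x hx.1 g, ?_⟩⟩
      rw [conj_pow, hx.2, mul_one, mul_inv_cancel]
    · rintro x ⟨hx, hx1⟩
      exact ⟨hNi x hx, by rw [← map_pow, hx1, map_one]⟩
  intro x hx
  rw [← hM] at hx
  exact hx.2

/-- the Sylow subgroup `{x | y x y⁻¹ ∈ R}` -/
theorem exists_conj_sylow {q : ℕ} (R : Sylow q X) (y : X) :
    ∃ R' : Sylow q X, ∀ x : X, x ∈ (R' : Subgroup X) ↔ y * x * y⁻¹ ∈ (R : Subgroup X) := by
  refine ⟨y⁻¹ • R, fun x => ?_⟩
  rw [Sylow.coe_subgroup_smul, mem_pointwise_smul_iff_inv_smul_mem, ← map_inv, inv_inv, MulAut.smul_def,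
    MulAut.conj_apply]

variable {q s : ℕ} [hq : Fact q.Prime] {α : MulAut X} {N : Subgroup X}

/-- `α(R) = Rᶜ` with `c ∈ N` fixed by `α`. -/
theorem exists_affine (hccp : CCP α) (hNi : ∀ m ∈ N, α m ∈ N) (hNab : ∀ x ∈ N, ∀ y ∈ N, x * y = y * x)
    (hX : ∀ (R : Sylow q X) (g : X), ∃ r ∈ (R : Subgroup X), ∃ n ∈ N, g = r * n) :
    ∃ (R : Sylow q X) (c : X), c ∈ N ∧ α c = c ∧ ∀ r ∈ (R : Subgroup X), c⁻¹ * α r * c ∈ (R : Subgroup X) := by
  let R : Sylow q X := default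
  obtain ⟨g, hg⟩ := MulAction.exists_smul_eq X (α • R) R
  have h1 : ∀ r ∈ (R : Subgroup X), g * α r * g⁻¹ ∈ (R : Subgroup X) := by
    intro r hr
    have h2 : α r ∈ ((α • R : Sylow q X) : Subgroup X) := smul_mem_pointwise_smul r α (R : Subgroup X) hr
    have h3 : g * α r * g⁻¹ ∈ ((g • (α • R) : Sylow q X) : Subgroup X) := by
      rw [Sylow.coe_subgroup_smul]
      exact smul_mem_pointwise_smul _ (MulAut.conj g) _ h2
    rwa [hg] at h3
  obtain ⟨r0, hr0, n, hn, rfl⟩ := hX R g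
  have h2 : ∀ r ∈ (R : Subgroup X), n * α r * n⁻¹ ∈ (R : Subgroup X) := by
    intro r hr
    have h3 := mul_mem (mul_mem (inv_mem hr0) (h1 r hr)) hr0
    have e : r0⁻¹ * (r0 * n * α r * (r0 * n)⁻¹) * r0 = n * α r * n⁻¹ := by group
    rwa [e] at h3
  obtain ⟨c, y, hc, e⟩ := (hccp.res N hNi) ⟨n⁻¹, inv_mem hn⟩
  have hc' : α c.1 = c.1 := congrArg Subtype.val hc
  have e' : n⁻¹ = c.1 * (y.1⁻¹ * α y.1) := congrArg Subtype.val e
  obtain ⟨R', hR'⟩ := exists_conj_sylow R y.1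
  refine ⟨R', c.1, c.2, hc', fun r hr => ?_⟩
  rw [hR'] at hr ⊢
  have h3 := h2 _ hr
  have hαy : α y.1 ∈ N := hNi _ y.2
  have e1 : n = y.1 * c.1⁻¹ * (α y.1)⁻¹ := by
    have h4 : n = (n⁻¹)⁻¹ := (inv_inv n).symm
    rw [h4, e', mul_inv_rev, mul_inv_rev, inv_inv]
    have h5 := hNab _ (inv_mem hαy) _ (mul_mem y.2 (inv_mem c.2))
    calc (α y.1)⁻¹ * y.1 * c.1⁻¹ = (α y.1)⁻¹ * (y.1 * c.1⁻¹) := by group
      _ = y.1 * c.1⁻¹ * (α y.1)⁻¹ := h5
  have e2 : n * α (y.1 * r * y.1⁻¹) * n⁻¹ = y.1 * (c.1⁻¹ * α r * c.1) * y.1⁻¹ := by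
    rw [e1, map_mul, map_mul, map_inv]
    group
  rwa [e2] at h3

/-- `γ = conj(c)⁻¹ α` : the elements of `⟨α⟩` of order prime to `s` are in `⟨γ⟩` -/
theorem mem_zpowers_gamma {c : X} (hc : α c = c) (hcs : c ^ s = 1) (hs : s.Prime) {z : MulAut X}
    (hz : z ∈ zpowers α) (hzs : ¬ s ∣ orderOf z) : z ∈ zpowers ((MulAut.conj c)⁻¹ * α) := by
  have hcomm : Commute (MulAut.conj c) α := by
    have h1 := aut_conj α c
    rw [hc, mul_inv_eq_iff_eq_mul] at h1
    exact h1.symm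
  set γ := (MulAut.conj c)⁻¹ * α with hγ
  have hα : α = MulAut.conj c * γ := by rw [hγ, mul_inv_cancel_left]
  have hcg : Commute (MulAut.conj c) γ := ((Commute.refl _).inv_right).mul_right hcomm
  obtain ⟨i, hi⟩ := hz
  have hcop : s.Coprime (orderOf z) := (Nat.Prime.coprime_iff_not_dvd hs).2 hzs
  obtain ⟨u, hu⟩ := exists_pow_eq_self_of_coprime hcop
  have h1 : z ^ s = (γ ^ i) ^ s := by
    have h2 : z = (MulAut.conj c) ^ i * γ ^ i := by
      rw [← hi]
      show α ^ i = _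
      rw [hα, hcg.mul_zpow]
    rw [h2, (hcg.zpow_zpow i i).mul_pow]
    have h3 : ((MulAut.conj c : MulAut X) ^ i) ^ s = 1 := by
      rw [← zpow_natCast, ← zpow_mul, mul_comm, zpow_mul, zpow_natCast, ← map_pow, hcs, map_one, one_zpow]
    rw [h3, one_mul]
  rw [← hu, h1]
  exact pow_mem (pow_mem (zpow_mem (mem_zpowers γ) i) s) u

theorem gamma_apply (c r : X) : ((MulAut.conj c)⁻¹ * α) r = c⁻¹ * α r * c := by
  rw [← map_inv, MulAut.mul_apply, MulAut.conj_apply, inv_inv]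

theorem zpowers_inv {R : Subgroup X} {γ z : MulAut X} (h : ∀ r ∈ R, γ r ∈ R) (hz : z ∈ zpowers γ) : ∀ r ∈ R, z r ∈ R := by
  obtain ⟨n, rfl⟩ := (mem_powers_iff_mem_zpowers (x := γ) (y := z)).2 hz
  intro r hr
  show (γ ^ n) r ∈ R
  induction n with
  | zero => exact hr
  | succ n ih =>
    rw [pow_succ', MulAut.mul_apply]
    exact h _ (ih (pow_mem (mem_zpowers γ) n))

/-- **`r ∈ C_R(z)` commutes with `c`**, `z` the part of `α` of order prime to `s`. -/
theorem comm_of_fixed (hZ : ZStarT) [hs : Fact s.Prime] (hqs : s ≠ q) (hccp : CCP α) (hNn : N.Normal)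
    (hNs : ∀ x ∈ N, x ^ s = 1) {R : Subgroup X} (hR : IsPGroup q R) {c : X} (hcN : c ∈ N)
    (hc : α c = c) (hγ : ∀ r ∈ R, c⁻¹ * α r * c ∈ R) {x z : MulAut X} (hx : x ∈ zpowers α) (hz : z ∈ zpowers α)
    (hα : α = z * x) (hxs : ∃ k : ℕ, orderOf x = s ^ k) {r : X} (hr : r ∈ R) (hzr : z r = r) : c * r = r * c := by
  have hzα : Commute z α := Cfg.comm_zpowers hz (mem_zpowers α)
  have hYi : ∀ m ∈ fixA z, α m ∈ fixA z := Cfg.fixA_inv hzα
  have hzc : z c = c := by
    have h1 : α ∈ MulAction.stabilizer (MulAut X) c := hc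
    have h2 : zpowers α ≤ MulAction.stabilizer (MulAut X) c := by rwa [zpowers_le]
    exact h2 hz
  set β := resA α (fixA z) hYi with hβ
  -- the order of `β`
  have hβs : ∃ k : ℕ, orderOf β = s ^ k := by
    obtain ⟨k, hk⟩ := hxs
    apply exists_pow_order (p := s) (j := k)
    have h1 : ∀ (n : ℕ) (m : ↥(fixA z)), ((β ^ n) m : X) = (x ^ n) (m : X) ∧ z ((x ^ n) (m : X)) = (x ^ n) (m : X) := by
      intro n
      induction n with
      | zero =>
        intro m
        exact ⟨rfl, m.2⟩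
      | succ n ih =>
        intro m
        have h2 : ((β ^ (n + 1)) m : X) = (x ^ (n + 1)) (m : X) := by
          rw [pow_succ', pow_succ', MulAut.mul_apply, MulAut.mul_apply, hβ, resA_coe, ← hβ, (ih m).1, hα, MulAut.mul_apply]
          have h3 : Commute z x := Cfg.comm_zpowers hz hx
          calc z (x ((x ^ n) (m : X))) = (z * x) ((x ^ n) (m : X)) := rfl
            _ = (x * z) ((x ^ n) (m : X)) := by rw [h3.eq]
            _ = x (z ((x ^ n) (m : X))) := rfl
            _ = _ := by rw [(ih m).2]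
        exact ⟨h2, by rw [← h2]; exact ((β ^ (n + 1)) m).2⟩
    ext m
    have h2 := (h1 (s ^ k) m).1
    rw [← hk, pow_orderOf_eq_one] at h2
    rw [← hk]
    exact h2
  have hK := coprime_cG hZ (hccp.res (fixA z) hYi) hβs
  have hKn : (cG β).Normal := cG_normal β
  -- the elements
  obtain ⟨c', hc'⟩ : ∃ c' : ↥(fixA z), (c' : X) = c := ⟨⟨c, hzc⟩, rfl⟩
  obtain ⟨r', hr'⟩ : ∃ r' : ↥(fixA z), (r' : X) = r := ⟨⟨r, hzr⟩, rfl⟩
  obtain ⟨k, hk⟩ : ∃ k, k = r'⁻¹ * β r' := ⟨_, rfl⟩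
  have hkK : k ∈ cG β := hk ▸ mem_cG β r'
  obtain ⟨d, hd⟩ : ∃ d, d = r'⁻¹ * c'⁻¹ * r' * c' := ⟨_, rfl⟩
  obtain ⟨l, hl⟩ : ∃ l, l = c'⁻¹ * k * c' := ⟨_, rfl⟩
  have hlK : l ∈ cG β := by
    have h1 := hKn.conj_mem k hkK c'⁻¹
    rw [inv_inv] at h1
    rwa [hl]
  have hdN : (d : X) ∈ N := by
    rw [hd, coe_mul, coe_mul, coe_mul, coe_inv, coe_inv, hc', hr']
    have h1 := hNn.conj_mem _ (inv_mem hcN) r⁻¹
    rw [inv_inv] at h1
    exact mul_mem h1 hcN
  have hdl : d * l = r'⁻¹ * (c'⁻¹ * β r' * c') := by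
    rw [hd, hl, hk]
    group
  have hdlR : ((d * l : ↥(fixA z)) : X) ∈ R := by
    rw [hdl, coe_mul, coe_mul, coe_mul, coe_inv, coe_inv, hβ, resA_coe, hc', hr']
    exact mul_mem (inv_mem hr) (hγ r hr)
  -- `N ∩ K = 1`
  have hNK : ∀ y : ↥(fixA z), (y : X) ∈ N → y ∈ cG β → y = 1 := by
    intro y hyN hyK
    have h1 : orderOf y ∣ s := orderOf_dvd_of_pow_eq_one (Subtype.ext (hNs _ hyN))
    have h2 : orderOf y ∣ Nat.card ↥(cG β) := by
      have h3 : orderOf (⟨y, hyK⟩ : ↥(cG β)) = orderOf y := Subgroup.orderOf_mk y hyK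
      rw [← h3]
      exact orderOf_dvd_natCard _
    have h3 := Nat.dvd_gcd h2 h1
    rw [hK] at h3
    exact orderOf_eq_one_iff.1 (Nat.dvd_one.1 h3)
  have hcomm : Commute d l := by
    have h1 : d * l * d⁻¹ * l⁻¹ = 1 := by
      apply hNK
      · have h2 : ((d * l * d⁻¹ * l⁻¹ : ↥(fixA z)) : X) = (d : X) * ((l : X) * (d : X)⁻¹ * (l : X)⁻¹) := by
          rw [coe_mul, coe_mul, coe_mul, coe_inv, coe_inv]; group
        rw [h2]
        exact mul_mem hdN (hNn.conj_mem _ (inv_mem hdN) _)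
      · exact mul_mem (hKn.conj_mem l hlK d) (inv_mem hlK)
    rw [mul_inv_eq_one, mul_inv_eq_iff_eq_mul] at h1
    exact h1
  have hd1 : d = 1 := by
    obtain ⟨j, hj⟩ := hR ⟨_, hdlR⟩
    have h1 : (d * l) ^ q ^ j = 1 := by
      have h2 := congrArg (fun z : ↥R => (z : X)) hj
      exact Subtype.ext (by simpa using h2)
    rw [hcomm.mul_pow] at h1
    have h2 : d ^ q ^ j = 1 := by
      apply hNK
      · rw [SubmonoidClass.coe_pow]
        exact pow_mem hdN _
      · rw [eq_inv_of_mul_eq_one_left h1]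
        exact inv_mem (pow_mem hlK _)
    have h3 : orderOf d ∣ s := orderOf_dvd_of_pow_eq_one (Subtype.ext (hNs _ hdN))
    have h4 := Nat.dvd_gcd (orderOf_dvd_of_pow_eq_one h2) h3
    have h5 : (q ^ j).Coprime s := Nat.Coprime.pow_left j ((Nat.coprime_primes hq.out hs.out).2 hqs.symm)
    rw [h5] at h4
    exact orderOf_eq_one_iff.1 (Nat.dvd_one.1 h4)
  rw [hd] at hd1
  have h1 : r⁻¹ * c⁻¹ * r * c = 1 := by
    have h2 := congrArg (fun z : ↥(fixA z) => (z : X)) hd1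
    rw [← hc', ← hr']
    exact h2
  calc c * r = c * r * (r⁻¹ * c⁻¹ * r * c) := by rw [h1, mul_one]
    _ = r * c := by group


/-- `Ω₁(Z(R))` -/
def om (q : ℕ) (R : Subgroup X) : Subgroup X where
  carrier := {a | a ∈ R ∧ a ^ q = 1 ∧ ∀ r ∈ R, a * r = r * a}
  one_mem' := ⟨one_mem R, one_pow q, fun r _ => by rw [one_mul, mul_one]⟩
  mul_mem' := by
    rintro a b ⟨ha, ha1, ha2⟩ ⟨hb, hb1, hb2⟩
    refine ⟨mul_mem ha hb, ?_, fun r hr => ?_⟩
    · rw [Commute.mul_pow (ha2 b hb), ha1, hb1, one_mul]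
    · rw [mul_assoc, hb2 r hr, ← mul_assoc, ha2 r hr, mul_assoc]
  inv_mem' := by
    rintro a ⟨ha, ha1, ha2⟩
    refine ⟨inv_mem ha, by rw [inv_pow, ha1, inv_one], fun r hr => ?_⟩
    exact ((show Commute a r from ha2 r hr).inv_left).eq

theorem om_inv {R : Subgroup X} {γ : MulAut X} (h : ∀ r ∈ R, γ r ∈ R) : ∀ a ∈ om q R, γ a ∈ om q R := by
  rintro a ⟨ha, ha1, ha2⟩
  refine ⟨h a ha, by rw [← map_pow, ha1, map_one], fun r hr => ?_⟩
  have h1 := symm_mem_of_inv h hr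
  have h2 := congrArg γ (ha2 _ h1)
  rw [map_mul, map_mul, MulAut.apply_inv_self] at h2
  exact h2

theorem om_ne_bot {R : Subgroup X} (hR : IsPGroup q R) (hRb : R ≠ ⊥) : om q R ≠ ⊥ := by
  have h1 : Nontrivial R := (nontrivial_iff_ne_bot R).2 hRb
  have h2 := hR.center_nontrivial
  have h3 : q ∣ Nat.card (center R) := by
    obtain ⟨n, hn⟩ := IsPGroup.iff_card.1 (hR.to_subgroup (center R))
    have h4 : Nat.card (center R) ≠ 1 := Finite.one_lt_card.ne'
    rw [hn]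
    refine dvd_pow_self q fun h5 => h4 ?_
    rw [hn, h5, pow_zero]
  obtain ⟨a, ha⟩ := exists_prime_orderOf_dvd_card' q h3
  intro h4
  have h5 : ((a : R) : X) ∈ om q R := by
    refine ⟨(a : R).2, ?_, fun r hr => ?_⟩
    · have h6 : a ^ q = 1 := by rw [← ha]; exact pow_orderOf_eq_one a
      have h7 := congrArg (fun z : ↥(center R) => ((z : R) : X)) h6
      exact h7
    · exact (congrArg Subtype.val (mem_center_iff.1 a.2 ⟨r, hr⟩)).symm
  rw [h4, mem_bot] at h5
  have h6 : a = 1 := Subtype.ext (Subtype.ext h5)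
  rw [h6, orderOf_one] at ha
  exact hq.out.one_lt.ne ha

/-- lifting from a quotient by a `q`-group -/
theorem lift_quot {M : Subgroup X} [M.Normal] (hM : IsPGroup q M) (hMi : ∀ m ∈ M, α m ∈ M)
    (h : ∃ P : Sylow q (X ⧸ M), ∀ m ∈ (P : Subgroup (X ⧸ M)), quoA α M hMi m ∈ (P : Subgroup (X ⧸ M))) :
    ∃ P : Sylow q X, ∀ m ∈ (P : Subgroup X), α m ∈ (P : Subgroup X) := by
  obtain ⟨P, hP⟩ := h
  have h1 : IsPGroup q ↥((P : Subgroup (X ⧸ M)).comap (QuotientGroup.mk' M)) :=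
    P.isPGroup'.comap_of_ker_isPGroup _ (by rw [QuotientGroup.ker_mk']; exact hM)
  have h2 : ¬ q ∣ ((P : Subgroup (X ⧸ M)).comap (QuotientGroup.mk' M)).index := by
    rw [index_comap_of_surjective _ (QuotientGroup.mk'_surjective M)]
    exact P.not_dvd_index
  refine ⟨h1.toSylow h2, fun m hm => ?_⟩
  have h3 : (QuotientGroup.mk' M m) ∈ (P : Subgroup (X ⧸ M)) := hm
  have h4 := hP _ h3
  exact h4

/-- lifting from a subgroup of index prime to `q` -/
theorem lift_sub {Y : Subgroup X} (hY : ¬ q ∣ Y.index) (hYi : ∀ m ∈ Y, α m ∈ Y)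
    (h : ∃ P : Sylow q Y, ∀ m ∈ (P : Subgroup Y), resA α Y hYi m ∈ (P : Subgroup Y)) :
    ∃ P : Sylow q X, ∀ m ∈ (P : Subgroup X), α m ∈ (P : Subgroup X) := by
  obtain ⟨P, hP⟩ := h
  have h1 : IsPGroup q ↥((P : Subgroup Y).map Y.subtype) := P.isPGroup'.map _
  have h2 : ¬ q ∣ ((P : Subgroup Y).map Y.subtype).index := by
    rw [index_map_subtype]
    intro h3
    rcases (Nat.Prime.dvd_mul hq.out).1 h3 with h4 | h4
    · exact P.not_dvd_index h4
    · exact hY h4
  refine ⟨h1.toSylow h2, fun m hm => ?_⟩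
  obtain ⟨y, hy, rfl⟩ : m ∈ (P : Subgroup Y).map Y.subtype := hm
  exact ⟨_, hP y hy, rfl⟩

/-- **The step of the induction.** -/
theorem step (hZ : ZStarT) (hs : s.Prime) (hqs : s ≠ q) (hccp : CCP α) (hqα : ¬ q ∣ orderOf α)
    (hnum : NumOK q (Nat.card X) (orderOf α)) (hNn : N.Normal)
    (hNi : ∀ m ∈ N, α m ∈ N)
    (hmin : ∀ M : Subgroup X, M ≤ N → M ≠ ⊥ → M.Normal → (∀ m ∈ M, α m ∈ M) → M = N)
    (hNab : ∀ x ∈ N, ∀ y ∈ N, x * y = y * x) (hNs : ∀ x ∈ N, x ^ s = 1)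
    (hq1 : pCore q X = ⊥) (hX : ∀ (R : Sylow q X) (g : X), ∃ r ∈ (R : Subgroup X), ∃ n ∈ N, g = r * n) :
    ∃ P : Sylow q X, ∀ m ∈ (P : Subgroup X), α m ∈ (P : Subgroup X) := by
  have : Fact s.Prime := ⟨hs⟩
  obtain ⟨R, c, hcN, hc, hγ⟩ := exists_affine hccp hNi hNab hX
  have hcs := hNs c hcN
  have hγ' : ∀ r ∈ (R : Subgroup X), ((MulAut.conj c)⁻¹ * α) r ∈ (R : Subgroup X) := by
    intro r hr
    rw [gamma_apply]
    exact hγ r hr
  by_cases hRb : (R : Subgroup X) = ⊥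
  · refine ⟨R, fun m hm => ?_⟩
    rw [hRb, mem_bot] at hm ⊢
    rw [hm, map_one]
  by_cases hsα : s ∣ orderOf α
  swap
  · exact ⟨R, zpowers_inv hγ' (mem_zpowers_gamma hc hcs hs (mem_zpowers α) hsα)⟩
  obtain ⟨x, z, hx, hz, hα, hxs, hzs, hzα⟩ := exists_ppart α s
  have hzR : ∀ r ∈ (R : Subgroup X), z r ∈ (R : Subgroup X) := zpowers_inv hγ' (mem_zpowers_gamma hc hcs hs hz hzs)
  have hA : IsPGroup q (om q (R : Subgroup X)) := R.isPGroup'.to_le fun a ha => ha.1
  have hAne := om_ne_bot R.isPGroup' hRb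
  -- elements of `R` commuting with `N` and `R`
  have hcen : ∀ a ∈ om q (R : Subgroup X), (∀ n ∈ N, n * a = a * n) → a = 1 := by
    intro a ha haN
    have h1 : ∀ g : X, g * a = a * g := by
      intro g
      obtain ⟨r, hr, n, hn, rfl⟩ := hX R g
      rw [mul_assoc, haN n hn, ← mul_assoc, ← ha.2.2 r hr, mul_assoc]
    have h2 : (zpowers a).Normal := by
      refine ⟨fun b hb g => ?_⟩
      obtain ⟨i, rfl⟩ := hb
      refine ⟨i, ?_⟩
      show a ^ i = g * a ^ i * g⁻¹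
      have h3 : Commute g (a ^ i) := (show Commute g a from h1 g).zpow_right i
      rw [h3.eq, mul_inv_cancel_right]
    have h3 : IsPGroup q (zpowers a) := hA.to_le (zpowers_le.2 ha)
    have h4 := Lib.Cores.le_pCore h2 h3 (mem_zpowers a)
    rwa [hq1, mem_bot] at h4
  by_cases hzA : ∀ a ∈ om q (R : Subgroup X), z a = a
  · -- `c` commutes with `A`
    have hcA : ∀ a ∈ om q (R : Subgroup X), c * a = a * c := fun a ha =>
      comm_of_fixed hZ hqs hccp hNn hNs R.isPGroup' hcN hc hγ hx hz hα hxs ha.1 (hzA a ha)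
    let M : Subgroup X := N ⊓ centralizer (om q (R : Subgroup X) : Set X)
    have hMn : M.Normal := by
      refine ⟨fun m hm g => ⟨hNn.conj_mem m hm.1 g, mem_centralizer_iff.2 fun a ha => ?_⟩⟩
      obtain ⟨r, hr, n, hn, rfl⟩ := hX R g
      have h1 : r * n * m * (r * n)⁻¹ = r * m * r⁻¹ := by
        have h2 := hNab n hn m hm.1
        calc r * n * m * (r * n)⁻¹ = r * (n * m) * n⁻¹ * r⁻¹ := by group
          _ = _ := by rw [h2]; group
      rw [h1]
      have h2 : Commute a r := ha.2.2 r hr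
      have h3 : Commute a m := mem_centralizer_iff.1 hm.2 a ha
      exact ((h2.mul_right h3).mul_right h2.inv_right).eq
    have hMi : ∀ m ∈ M, α m ∈ M := by
      intro m hm
      refine ⟨hNi m hm.1, mem_centralizer_iff.2 fun a ha => ?_⟩
      have h1 : ∀ b ∈ om q (R : Subgroup X), ((MulAut.conj c)⁻¹ * α) b ∈ om q (R : Subgroup X) := om_inv hγ'
      have h2 := symm_mem_of_inv h1 ha
      obtain ⟨b, hb⟩ : ∃ b, b = ((MulAut.conj c)⁻¹ * α)⁻¹ a := ⟨_, rfl⟩
      rw [← hb] at h2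
      have h3 : a = c⁻¹ * α b * c := by
        rw [← gamma_apply, hb, MulAut.apply_inv_self]
      have h4 : Commute b m := mem_centralizer_iff.1 hm.2 b h2
      have h5 : Commute (α b) (α m) := h4.map α
      have h6 : Commute c (α m) := hNab c hcN _ (hNi m hm.1)
      rw [h3]
      exact ((h6.inv_left.mul_left h5).mul_left h6).eq
    by_cases hMb : M = ⊥
    · have h1 : c ∈ M := ⟨hcN, mem_centralizer_iff.2 fun a ha => (hcA a ha).symm⟩
      rw [hMb, mem_bot] at h1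
      refine ⟨R, fun m hm => ?_⟩
      have h2 := hγ m hm
      rwa [h1, inv_one, one_mul, mul_one] at h2
    · exfalso
      have h1 := hmin M inf_le_left hMb hMn hMi
      apply hAne
      rw [eq_bot_iff]
      intro a ha
      refine hcen a ha fun n hn => ?_
      rw [← h1] at hn
      exact (mem_centralizer_iff.1 hn.2 a ha).symm
  · exfalso
    push Not at hzA
    obtain ⟨a, ha, hza⟩ := hzA
    have hzA : ∀ b ∈ om q (R : Subgroup X), z b ∈ om q (R : Subgroup X) := om_inv hzR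
    set σ := resA z (om q (R : Subgroup X)) hzA with hσ
    have hσ1 : σ ≠ 1 := by
      intro h1
      apply hza
      have h2 : (σ ⟨a, ha⟩ : X) = a := by rw [h1]; rfl
      exact h2
    obtain ⟨p, hp, hpσ⟩ := Nat.exists_prime_and_dvd (n := orderOf σ) (fun h1 => hσ1 (orderOf_eq_one_iff.1 h1))
    have : Fact p.Prime := ⟨hp⟩
    have hpz : p ∣ orderOf z := hpσ.trans (orderOf_resA_dvd z _ hzA)
    have hpα : p ∣ orderOf α := hpz.trans hzα
    have hps : p ≠ s := by
      rintro rfl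
      exact hzs hpz
    have hpq : p ≠ q := by
      rintro rfl
      exact hqα hpα
    obtain ⟨y, hy, hyo⟩ := exists_prime_order hp hpσ
    have h1 := pow_dvd_of_move (p := p) (q := q) hpq.symm hA (σ := y) ⟨1, by rw [hyo, pow_one]⟩ (by
      rintro rfl
      rw [orderOf_one] at hyo
      exact hp.one_lt.ne hyo)
    have h2 := pow_dvd_of_faithful (q := q) (s := s) hqs (orderOf (q : ZMod p)) (om q (R : Subgroup X)) N
      ⟨⟨⟨fun u v => Subtype.ext (u.2.2.2 v v.2.1)⟩⟩, fun u hu => hu.2.1⟩ (fun u => ⟨1, by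
        rw [pow_one]
        exact Subtype.ext (hNs u u.2)⟩) hNab (by
        intro g _
        rw [mem_normalizer_iff]
        intro n
        refine ⟨fun h => hNn.conj_mem n h g, fun h => ?_⟩
        have h3 := hNn.conj_mem _ h g⁻¹
        have e : g⁻¹ * (g * n * g⁻¹) * g⁻¹⁻¹ = n := by group
        rwa [e] at h3) (by
        rw [eq_bot_iff]
        rintro u ⟨hu, huN⟩
        exact hcen u hu fun n hn => mem_centralizer_iff.1 huN n hn) h1
    exact hnum s p hs hp hsα hpα hqs hpq hps (h2.trans (card_subgroup_dvd_card N))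

end

/-- **Invariant Sylow subgroups.** -/
theorem exists_sylow_inv (hZ : ZStarT) {q : ℕ} [hq : Fact q.Prime] (n : ℕ) : ∀ (X : Type u) [Group X] [Finite X]
    (α : MulAut X), Nat.card X ≤ n → Group.IsSolvable X → CCP α → ¬ q ∣ orderOf α →
    NumOK q (Nat.card X) (orderOf α) → ∃ P : Sylow q X, ∀ m ∈ (P : Subgroup X), α m ∈ (P : Subgroup X) := by
  induction n with
  | zero =>
    intro X _ _ α hn
    exact absurd hn (by have := Nat.card_pos (α := X); omega)
  | succ n ih =>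
    intro X _ _ α hn hs hccp hqα hnum
    have hcq : ∀ (M : Subgroup X) [M.Normal], M ≠ ⊥ → Nat.card (X ⧸ M) ≤ n := by
      intro M _ hM
      have h1 := M.card_eq_card_quotient_mul_card_subgroup
      have h2 : 1 < Nat.card M := (one_lt_card_iff_ne_bot M).2 hM
      have h3 : 0 < Nat.card (X ⧸ M) := Nat.card_pos
      have h4 : Nat.card (X ⧸ M) * 2 ≤ Nat.card X := by
        rw [h1]
        exact Nat.mul_le_mul_left _ h2
      omega
    have hquo : ∀ (M : Subgroup X) [M.Normal], M ≠ ⊥ → ∀ hMi : (∀ m ∈ M, α m ∈ M),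
        ∃ P : Sylow q (X ⧸ M), ∀ m ∈ (P : Subgroup (X ⧸ M)), quoA α M hMi m ∈ (P : Subgroup (X ⧸ M)) := by
      intro M _ hM hMi
      have h1 := orderOf_quoA_dvd α M hMi
      exact ih (X ⧸ M) (quoA α M hMi) (hcq M hM) inferInstance (hccp.quo M hMi) (fun h2 => hqα (h2.trans h1))
        (hnum.mono (card_quotient_dvd_card M) h1)
    by_cases hq1 : pCore q X = ⊥
    swap
    · have hn1 := Lib.Cores.pCore_normal (G := X) q
      have hMi : ∀ m ∈ pCore q X, α m ∈ pCore q X := by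
        have hch : (pCore q X).Characteristic := Lib.Cores.pCore_characteristic q
        intro m hm
        have h1 := characteristic_iff_map_le.1 hch α
        exact h1 ⟨m, hm, rfl⟩
      exact lift_quot (Lib.Cores.pCore_isPGroup q) hMi (hquo _ hq1 hMi)
    by_cases hX1 : Subsingleton X
    · refine ⟨default, fun m hm => ?_⟩
      rwa [Subsingleton.elim (α m) m]
    have hX2 : Nontrivial X := not_subsingleton_iff_nontrivial.1 hX1
    -- a minimal invariant normal subgroup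
    obtain ⟨N, ⟨hNb, hNn, hNi⟩, hmin⟩ : ∃ N : Subgroup X, (N ≠ ⊥ ∧ N.Normal ∧ ∀ m ∈ N, α m ∈ N) ∧
        ∀ M : Subgroup X, M ≤ N → M ≠ ⊥ → M.Normal → (∀ m ∈ M, α m ∈ M) → M = N := by
      let S : Set (Subgroup X) := {N | N ≠ ⊥ ∧ N.Normal ∧ ∀ m ∈ N, α m ∈ N}
      have hS : S.Nonempty := ⟨⊤, top_ne_bot, inferInstance, fun _ _ => mem_top _⟩
      obtain ⟨N, hN⟩ := (Set.toFinite S).exists_minimal hS
      refine ⟨N, hN.prop, fun M hM h1 h2 h3 => ?_⟩
      exact hN.eq_of_le ⟨h1, h2, h3⟩ hM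
    obtain ⟨s, hsp, hNab, hNs⟩ := min_elem hs hNb hNn hNi hmin
    have hqs : s ≠ q := by
      rintro rfl
      have h1 : IsPGroup s N := fun x => ⟨1, by
        rw [pow_one]
        exact Subtype.ext (hNs x x.2)⟩
      have h2 := Lib.Cores.le_pCore hNn h1
      rw [hq1] at h2
      exact hNb (le_bot_iff.1 h2)
    obtain ⟨P, hP⟩ := hquo N hNb hNi
    obtain ⟨Y, hY⟩ : ∃ Y : Subgroup X, Y = (P : Subgroup (X ⧸ N)).comap (QuotientGroup.mk' N) := ⟨_, rfl⟩
    have hYidx : Y.index = (P : Subgroup (X ⧸ N)).index := by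
      rw [hY]
      exact index_comap_of_surjective _ (QuotientGroup.mk'_surjective N)
    have hYq : ¬ q ∣ Y.index := by
      rw [hYidx]
      exact P.not_dvd_index
    by_cases hYt : Y = ⊤
    · -- `X/N` is a `q`-group
      have hPt : (P : Subgroup (X ⧸ N)) = ⊤ := by
        rw [← index_eq_one, ← hYidx, hYt, index_top]
      have hXN : IsPGroup q (X ⧸ N) := by
        have h1 := P.isPGroup'
        rw [hPt] at h1
        exact h1.of_equiv topEquiv
      refine step hZ hsp hqs hccp hqα hnum hNn hNi hmin hNab hNs hq1 fun R g => ?_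
      have h1 : (R : Subgroup X) ⊔ N = ⊤ := by
        rw [← index_eq_one]
        obtain ⟨k, hk⟩ := IsPGroup.iff_card.1 hXN
        have h2 : ((R : Subgroup X) ⊔ N).index ∣ q ^ k := by
          rw [← hk]
          exact index_dvd_of_le (le_sup_right : N ≤ (R : Subgroup X) ⊔ N)
        obtain ⟨j, -, hj⟩ := (Nat.dvd_prime_pow hq.out).1 h2
        by_cases hj0 : j = 0
        · rw [hj, hj0, pow_zero]
        · exfalso
          apply R.not_dvd_index
          have h3 : ((R : Subgroup X) ⊔ N).index ∣ (R : Subgroup X).index := index_dvd_of_le le_sup_left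
          exact (dvd_pow_self q hj0).trans (hj ▸ h3)
      have h2 : g ∈ ((R : Subgroup X) ⊔ N : Subgroup X) := by rw [h1]; trivial
      rw [← SetLike.mem_coe, mul_normal] at h2
      obtain ⟨r, hr, n, hn, e⟩ := h2
      exact ⟨r, hr, n, hn, e.symm⟩
    · have hYi : ∀ m ∈ Y, α m ∈ Y := by
        rw [hY]
        intro m hm
        exact hP _ hm
      have h1 := orderOf_resA_dvd α Y hYi
      refine lift_sub hYq hYi (ih Y (resA α Y hYi) ?_ inferInstance (hccp.res Y hYi) (fun h2 => hqα (h2.trans h1))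
        (hnum.mono (card_subgroup_dvd_card Y) h1))
      have h2 : Nat.card Y < Nat.card X := by
        have h3 := Y.card_mul_index
        have h4 : Y.index ≠ 1 := fun h5 => hYt (index_eq_one.1 h5)
        have h5 : 0 < Nat.card Y := Nat.card_pos
        have h6 : Y.index ≠ 0 := index_ne_zero_of_finite
        rw [← h3]
        exact lt_mul_of_one_lt_right h5 (by omega)
      omega

end Cfsg.Agent.H979.Ccp
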