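import Cfsg.Agent.H979.Ccp.Two
import Cfsg.Agent.H979.Ccp.Hyp

/-!
# Invariant Sylow subgroups with a weaker numerical condition (helper979)

* `NumOK2 q n o` : the numerical condition;
* `exists_sylow_inv2`, `exists_sylow2`, `false_of_sylow2`, `false_of_center2` : the theorems of `Sol`, `Two` with `NumOK2`.
-/

set_option autoImplicit false
set_option linter.unusedSectionVars false

namespace Cfsg.Agent.H979.Ccp

open Subgroup Cfsg Cfsg.Agent.H520
open scoped Pointwise

universe u

/-- the numerical condition -/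
def NumOK2 (q n o : ℕ) : Prop := ∀ s p : ℕ, s.Prime → p.Prime → s ∣ o → p ∣ o → s ≠ q → p ≠ q → p ≠ s →
  ¬ s ^ (if p ∣ orderOf (s : ZMod q) then orderOf (q : ZMod p) * orderOf (s : ZMod q) else p * orderOf (s : ZMod q)) ∣ n

theorem NumOK2.mono {q n o n' o' : ℕ} (h : NumOK2 q n o) (hn : n' ∣ n) (ho : o' ∣ o) : NumOK2 q n' o' :=
  fun s p hs hp h1 h2 h3 h4 h5 h6 => h s p hs hp (h1.trans ho) (h2.trans ho) h3 h4 h5 (h6.trans hn)

section

variable {X : Type u} [Group X] [Finite X] {q s : ℕ} [hq : Fact q.Prime] {α : MulAut X} {N : Subgroup X}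

/-- **The step of the induction.** -/
theorem step2 (hZ : ZStarT) (hs : s.Prime) (hqs : s ≠ q) (hccp : CCP α) (hqα : ¬ q ∣ orderOf α)
    (hnum : NumOK2 q (Nat.card X) (orderOf α)) (hNn : N.Normal)
    (hNi : ∀ m ∈ N, α m ∈ N)
    (hmin : ∀ M : Subgroup X, M ≤ N → M ≠ ⊥ → M.Normal → (∀ m ∈ M, α m ∈ M) → M = N)
    (hNab : ∀ x ∈ N, ∀ y ∈ N, x * y = y * x) (hNs : ∀ x ∈ N, x ^ s = 1)
    (hq1 : pCore q X = ⊥) (hX : ∀ (R : Sylow q X) (g : X), ∃ r ∈ (R : Subgroup X), ∃ n ∈ N, g = r * n) :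
    ∃ P : Sylow q X, ∀ m ∈ (P : Subgroup X), α m ∈ (P : Subgroup X) := by
  have : Fact s.Prime := ⟨hs⟩
  obtain ⟨R, c, hcN, hc, hγ⟩ := exists_affine hccp hNi hNab hX
  have hcs := hNs c hcN
  have hγ' : ∀ r ∈ (R : Subgroup X), ((MulAut.conj c)⁻¹ * α) r ∈ (R : Subgroup X) := by
    intro r hr
    rw [gamma_apply]
    exact hγ r hr
  by_cases hRb : (R : Subgroup X) = ⊥
  · refine ⟨R, fun m hm => ?_⟩
    rw [hRb, mem_bot] at hm ⊢
    rw [hm, map_one]
  by_cases hsα : s ∣ orderOf α
  swap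
  · exact ⟨R, zpowers_inv hγ' (mem_zpowers_gamma hc hcs hs (mem_zpowers α) hsα)⟩
  obtain ⟨x, z, hx, hz, hα, hxs, hzs, hzα⟩ := exists_ppart α s
  have hzR : ∀ r ∈ (R : Subgroup X), z r ∈ (R : Subgroup X) := zpowers_inv hγ' (mem_zpowers_gamma hc hcs hs hz hzs)
  have hA : IsPGroup q (om q (R : Subgroup X)) := R.isPGroup'.to_le fun a ha => ha.1
  have hAne := om_ne_bot R.isPGroup' hRb
  -- elements of `R` commuting with `N` and `R`
  have hcen : ∀ a ∈ om q (R : Subgroup X), (∀ n ∈ N, n * a = a * n) → a = 1 := by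
    intro a ha haN
    have h1 : ∀ g : X, g * a = a * g := by
      intro g
      obtain ⟨r, hr, n, hn, rfl⟩ := hX R g
      rw [mul_assoc, haN n hn, ← mul_assoc, ← ha.2.2 r hr, mul_assoc]
    have h2 : (zpowers a).Normal := by
      refine ⟨fun b hb g => ?_⟩
      obtain ⟨i, rfl⟩ := hb
      refine ⟨i, ?_⟩
      show a ^ i = g * a ^ i * g⁻¹
      have h3 : Commute g (a ^ i) := (show Commute g a from h1 g).zpow_right i
      rw [h3.eq, mul_inv_cancel_right]
    have h3 : IsPGroup q (zpowers a) := hA.to_le (zpowers_le.2 ha)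
    have h4 := Lib.Cores.le_pCore h2 h3 (mem_zpowers a)
    rwa [hq1, mem_bot] at h4
  by_cases hzA : ∀ a ∈ om q (R : Subgroup X), z a = a
  · -- `c` commutes with `A`
    have hcA : ∀ a ∈ om q (R : Subgroup X), c * a = a * c := fun a ha =>
      comm_of_fixed hZ hqs hccp hNn hNs R.isPGroup' hcN hc hγ hx hz hα hxs ha.1 (hzA a ha)
    let M : Subgroup X := N ⊓ centralizer (om q (R : Subgroup X) : Set X)
    have hMn : M.Normal := by
      refine ⟨fun m hm g => ⟨hNn.conj_mem m hm.1 g, mem_centralizer_iff.2 fun a ha => ?_⟩⟩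
      obtain ⟨r, hr, n, hn, rfl⟩ := hX R g
      have h1 : r * n * m * (r * n)⁻¹ = r * m * r⁻¹ := by
        have h2 := hNab n hn m hm.1
        calc r * n * m * (r * n)⁻¹ = r * (n * m) * n⁻¹ * r⁻¹ := by group
          _ = _ := by rw [h2]; group
      rw [h1]
      have h2 : Commute a r := ha.2.2 r hr
      have h3 : Commute a m := mem_centralizer_iff.1 hm.2 a ha
      exact ((h2.mul_right h3).mul_right h2.inv_right).eq
    have hMi : ∀ m ∈ M, α m ∈ M := by
      intro m hm
      refine ⟨hNi m hm.1, mem_centralizer_iff.2 fun a ha => ?_⟩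
      have h1 : ∀ b ∈ om q (R : Subgroup X), ((MulAut.conj c)⁻¹ * α) b ∈ om q (R : Subgroup X) := om_inv hγ'
      have h2 := symm_mem_of_inv h1 ha
      obtain ⟨b, hb⟩ : ∃ b, b = ((MulAut.conj c)⁻¹ * α)⁻¹ a := ⟨_, rfl⟩
      rw [← hb] at h2
      have h3 : a = c⁻¹ * α b * c := by
        rw [← gamma_apply, hb, MulAut.apply_inv_self]
      have h4 : Commute b m := mem_centralizer_iff.1 hm.2 b h2
      have h5 : Commute (α b) (α m) := h4.map α
      have h6 : Commute c (α m) := hNab c hcN _ (hNi m hm.1)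
      rw [h3]
      exact ((h6.inv_left.mul_left h5).mul_left h6).eq
    by_cases hMb : M = ⊥
    · have h1 : c ∈ M := ⟨hcN, mem_centralizer_iff.2 fun a ha => (hcA a ha).symm⟩
      rw [hMb, mem_bot] at h1
      refine ⟨R, fun m hm => ?_⟩
      have h2 := hγ m hm
      rwa [h1, inv_one, one_mul, mul_one] at h2
    · exfalso
      have h1 := hmin M inf_le_left hMb hMn hMi
      apply hAne
      rw [eq_bot_iff]
      intro a ha
      refine hcen a ha fun n hn => ?_
      rw [← h1] at hn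
      exact (mem_centralizer_iff.1 hn.2 a ha).symm
  · exfalso
    push Not at hzA
    obtain ⟨a, ha, hza⟩ := hzA
    have hzA : ∀ b ∈ om q (R : Subgroup X), z b ∈ om q (R : Subgroup X) := om_inv hzR
    set σ := resA z (om q (R : Subgroup X)) hzA with hσ
    have hσ1 : σ ≠ 1 := by
      intro h1
      apply hza
      have h2 : (σ ⟨a, ha⟩ : X) = a := by rw [h1]; rfl
      exact h2
    obtain ⟨p, hp, hpσ⟩ := Nat.exists_prime_and_dvd (n := orderOf σ) (fun h1 => hσ1 (orderOf_eq_one_iff.1 h1))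
    have : Fact p.Prime := ⟨hp⟩
    have hpz : p ∣ orderOf z := hpσ.trans (orderOf_resA_dvd z _ hzA)
    have hpα : p ∣ orderOf α := hpz.trans hzα
    have hps : p ≠ s := by
      rintro rfl
      exact hzs hpz
    have hpq : p ≠ q := by
      rintro rfl
      exact hqα hpα
    obtain ⟨y, hy, hyo⟩ := exists_prime_order hp hpσ
    have hAab : IsElementaryAbelian q (om q (R : Subgroup X)) :=
      ⟨⟨⟨fun u v => Subtype.ext (u.2.2.2 v v.2.1)⟩⟩, fun u hu => hu.2.1⟩
    have hAN : om q (R : Subgroup X) ≤ normalizer (N : Set X) := by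
      intro g _
      rw [mem_normalizer_iff]
      intro n
      refine ⟨fun h => hNn.conj_mem n h g, fun h => ?_⟩
      have h3 := hNn.conj_mem _ h g⁻¹
      have e : g⁻¹ * (g * n * g⁻¹) * g⁻¹⁻¹ = n := by group
      rwa [e] at h3
    have hAf : om q (R : Subgroup X) ⊓ centralizer (N : Set X) = ⊥ := by
      rw [eq_bot_iff]
      rintro u ⟨hu, huN⟩
      exact hcen u hu fun n hn => mem_centralizer_iff.1 huN n hn
    have hy1 : y ≠ 1 := by
      rintro rfl
      rw [orderOf_one] at hyo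
      exact hp.one_lt.ne hyo
    have hnum' := hnum s p hs hp hsα hpα hqs hpq hps
    by_cases hpm : p ∣ orderOf (s : ZMod q)
    · rw [if_pos hpm] at hnum'
      have h1 := pow_dvd_of_move (p := p) (q := q) hpq.symm hA (σ := y) ⟨1, by rw [hyo, pow_one]⟩ hy1
      have h2 := pow_dvd_of_faithful (q := q) (s := s) hqs (orderOf (q : ZMod p)) (om q (R : Subgroup X)) N
        hAab (fun u => ⟨1, by
          rw [pow_one]
          exact Subtype.ext (hNs u u.2)⟩) hNab hAN hAf h1
      exact hnum' (h2.trans (card_subgroup_dvd_card N))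
    · rw [if_neg hpm] at hnum'
      obtain ⟨i, rfl⟩ := (mem_powers_iff_mem_zpowers (x := σ) (y := y)).2 hy
      have hzi : ∀ (k : ℕ) (m : ↥(om q (R : Subgroup X))), ((σ ^ k) m : X) = (z ^ k) (m : X) := fun k m => by
        rw [hσ, resA_pow_coe]
      have hzN : ∀ n ∈ N, z n ∈ N := zpowers_inv hNi hz
      have h2 := pow_dvd_of_faithful_move (q := q) (s := s) (p := p) hqs hpm hAab hNs hNab hAN hAf (τ := z ^ i)
        (fun a ha => pow_inv hzA i a ha) (fun n hn => pow_inv hzN i n hn) (fun a ha => by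
          have h3 : ((σ ^ (i * p)) ⟨a, ha⟩ : X) = a := by
            rw [pow_mul]
            have h4 : (σ ^ i) ^ p = 1 := by
              have h5 := pow_orderOf_eq_one (σ ^ i)
              have h6 : orderOf (σ ^ i) = p := hyo
              rwa [h6] at h5
            rw [h4]
            rfl
          rw [hzi] at h3
          rw [← pow_mul]
          exact h3) (by
          by_contra hcon
          push Not at hcon
          apply hy1
          ext m
          show (((σ ^ i) m : ↥(om q (R : Subgroup X))) : X) = m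
          rw [hzi]
          exact hcon m m.2)
      exact hnum' (h2.trans (card_subgroup_dvd_card N))

end

/-- **Invariant Sylow subgroups.** -/
theorem exists_sylow_inv2 (hZ : ZStarT) {q : ℕ} [hq : Fact q.Prime] (n : ℕ) : ∀ (X : Type u) [Group X] [Finite X]
    (α : MulAut X), Nat.card X ≤ n → Group.IsSolvable X → CCP α → ¬ q ∣ orderOf α →
    NumOK2 q (Nat.card X) (orderOf α) → ∃ P : Sylow q X, ∀ m ∈ (P : Subgroup X), α m ∈ (P : Subgroup X) := by
  induction n with
  | zero =>
    intro X _ _ α hn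
    exact absurd hn (by have := Nat.card_pos (α := X); omega)
  | succ n ih =>
    intro X _ _ α hn hs hccp hqα hnum
    have hcq : ∀ (M : Subgroup X) [M.Normal], M ≠ ⊥ → Nat.card (X ⧸ M) ≤ n := by
      intro M _ hM
      have h1 := M.card_eq_card_quotient_mul_card_subgroup
      have h2 : 1 < Nat.card M := (one_lt_card_iff_ne_bot M).2 hM
      have h3 : 0 < Nat.card (X ⧸ M) := Nat.card_pos
      have h4 : Nat.card (X ⧸ M) * 2 ≤ Nat.card X := by
        rw [h1]
        exact Nat.mul_le_mul_left _ h2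
      omega
    have hquo : ∀ (M : Subgroup X) [M.Normal], M ≠ ⊥ → ∀ hMi : (∀ m ∈ M, α m ∈ M),
        ∃ P : Sylow q (X ⧸ M), ∀ m ∈ (P : Subgroup (X ⧸ M)), quoA α M hMi m ∈ (P : Subgroup (X ⧸ M)) := by
      intro M _ hM hMi
      have h1 := orderOf_quoA_dvd α M hMi
      exact ih (X ⧸ M) (quoA α M hMi) (hcq M hM) inferInstance (hccp.quo M hMi) (fun h2 => hqα (h2.trans h1))
        (hnum.mono (card_quotient_dvd_card M) h1)
    by_cases hq1 : pCore q X = ⊥
    swap
    · have hn1 := Lib.Cores.pCore_normal (G := X) q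
      have hMi : ∀ m ∈ pCore q X, α m ∈ pCore q X := by
        have hch : (pCore q X).Characteristic := Lib.Cores.pCore_characteristic q
        intro m hm
        have h1 := characteristic_iff_map_le.1 hch α
        exact h1 ⟨m, hm, rfl⟩
      exact lift_quot (Lib.Cores.pCore_isPGroup q) hMi (hquo _ hq1 hMi)
    by_cases hX1 : Subsingleton X
    · refine ⟨default, fun m hm => ?_⟩
      rwa [Subsingleton.elim (α m) m]
    have hX2 : Nontrivial X := not_subsingleton_iff_nontrivial.1 hX1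
    -- a minimal invariant normal subgroup
    obtain ⟨N, ⟨hNb, hNn, hNi⟩, hmin⟩ : ∃ N : Subgroup X, (N ≠ ⊥ ∧ N.Normal ∧ ∀ m ∈ N, α m ∈ N) ∧
        ∀ M : Subgroup X, M ≤ N → M ≠ ⊥ → M.Normal → (∀ m ∈ M, α m ∈ M) → M = N := by
      let S : Set (Subgroup X) := {N | N ≠ ⊥ ∧ N.Normal ∧ ∀ m ∈ N, α m ∈ N}
      have hS : S.Nonempty := ⟨⊤, top_ne_bot, inferInstance, fun _ _ => mem_top _⟩
      obtain ⟨N, hN⟩ := (Set.toFinite S).exists_minimal hS
      refine ⟨N, hN.prop, fun M hM h1 h2 h3 => ?_⟩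
      exact hN.eq_of_le ⟨h1, h2, h3⟩ hM
    obtain ⟨s, hsp, hNab, hNs⟩ := min_elem hs hNb hNn hNi hmin
    have hqs : s ≠ q := by
      rintro rfl
      have h1 : IsPGroup s N := fun x => ⟨1, by
        rw [pow_one]
        exact Subtype.ext (hNs x x.2)⟩
      have h2 := Lib.Cores.le_pCore hNn h1
      rw [hq1] at h2
      exact hNb (le_bot_iff.1 h2)
    obtain ⟨P, hP⟩ := hquo N hNb hNi
    obtain ⟨Y, hY⟩ : ∃ Y : Subgroup X, Y = (P : Subgroup (X ⧸ N)).comap (QuotientGroup.mk' N) := ⟨_, rfl⟩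
    have hYidx : Y.index = (P : Subgroup (X ⧸ N)).index := by
      rw [hY]
      exact index_comap_of_surjective _ (QuotientGroup.mk'_surjective N)
    have hYq : ¬ q ∣ Y.index := by
      rw [hYidx]
      exact P.not_dvd_index
    by_cases hYt : Y = ⊤
    · -- `X/N` is a `q`-group
      have hPt : (P : Subgroup (X ⧸ N)) = ⊤ := by
        rw [← index_eq_one, ← hYidx, hYt, index_top]
      have hXN : IsPGroup q (X ⧸ N) := by
        have h1 := P.isPGroup'
        rw [hPt] at h1
        exact h1.of_equiv topEquiv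
      refine step2 hZ hsp hqs hccp hqα hnum hNn hNi hmin hNab hNs hq1 fun R g => ?_
      have h1 : (R : Subgroup X) ⊔ N = ⊤ := by
        rw [← index_eq_one]
        obtain ⟨k, hk⟩ := IsPGroup.iff_card.1 hXN
        have h2 : ((R : Subgroup X) ⊔ N).index ∣ q ^ k := by
          rw [← hk]
          exact index_dvd_of_le (le_sup_right : N ≤ (R : Subgroup X) ⊔ N)
        obtain ⟨j, -, hj⟩ := (Nat.dvd_prime_pow hq.out).1 h2
        by_cases hj0 : j = 0
        · rw [hj, hj0, pow_zero]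
        · exfalso
          apply R.not_dvd_index
          have h3 : ((R : Subgroup X) ⊔ N).index ∣ (R : Subgroup X).index := index_dvd_of_le le_sup_left
          exact (dvd_pow_self q hj0).trans (hj ▸ h3)
      have h2 : g ∈ ((R : Subgroup X) ⊔ N : Subgroup X) := by rw [h1]; trivial
      rw [← SetLike.mem_coe, mul_normal] at h2
      obtain ⟨r, hr, n, hn, e⟩ := h2
      exact ⟨r, hr, n, hn, e.symm⟩
    · have hYi : ∀ m ∈ Y, α m ∈ Y := by
        rw [hY]
        intro m hm
        exact hP _ hm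
      have h1 := orderOf_resA_dvd α Y hYi
      refine lift_sub hYq hYi (ih Y (resA α Y hYi) ?_ inferInstance (hccp.res Y hYi) (fun h2 => hqα (h2.trans h1))
        (hnum.mono (card_subgroup_dvd_card Y) h1))
      have h2 : Nat.card Y < Nat.card X := by
        have h3 := Y.card_mul_index
        have h4 : Y.index ≠ 1 := fun h5 => hYt (index_eq_one.1 h5)
        have h5 : 0 < Nat.card Y := Nat.card_pos
        have h6 : Y.index ≠ 0 := index_ne_zero_of_finite
        rw [← h3]
        exact lt_mul_of_one_lt_right h5 (by omega)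
      omega

section two

variable {G : Type u} [Group G] [Finite G] {α : MulAut G}

/-- **`α` normalises a Sylow `q`-subgroup**, if the `q`-part of `α` is a nontrivial inner automorphism. -/
theorem exists_sylow2 (h : Cfg α) (hodd : Odd (Nat.card (fixA α))) {q : ℕ} [hq : Fact q.Prime]
    (hnum : NumOK2 q (Nat.card G) (orderOf α)) {u : G} {z : MulAut G} (hu : MulAut.conj u ∈ zpowers α)
    (hz : z ∈ zpowers α) (hα : α = z * MulAut.conj u) (huq : ∃ k : ℕ, orderOf (MulAut.conj u) = q ^ k)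
    (hzq : ¬ q ∣ orderOf z) (hu1 : u ≠ 1) :
    ∃ T : Sylow q G, ∀ m ∈ (T : Subgroup G), α m ∈ (T : Subgroup G) := by
  have hcb := h.center_bot
  have hαu := fix_of_mem h hu
  -- `u` is a `q`-element
  have hupow : ∃ k : ℕ, u ^ q ^ k = 1 := by
    obtain ⟨k, hk⟩ := huq
    refine ⟨k, ?_⟩
    apply conj_inj hcb
    rw [map_pow, ← hk, pow_orderOf_eq_one, map_one]
  let S : Set (Subgroup G) := {U | IsPGroup q U ∧ u ∈ U ∧ ∀ m ∈ U, α m ∈ U}
  have hS : S.Nonempty := by
    refine ⟨zpowers u, ?_, mem_zpowers u, ?_⟩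
    · rintro ⟨_, i, rfl⟩
      obtain ⟨k, hk⟩ := hupow
      refine ⟨k, Subtype.ext ?_⟩
      show (u ^ i) ^ q ^ k = 1
      rw [← zpow_natCast, ← zpow_mul, mul_comm, zpow_mul, zpow_natCast, hk, one_zpow]
    · rintro _ ⟨i, rfl⟩
      refine ⟨i, ?_⟩
      show u ^ i = α (u ^ i)
      rw [map_zpow, hαu]
  obtain ⟨U, hU⟩ := (Set.toFinite S).exists_maximal hS
  obtain ⟨hUq, huU, hUi⟩ := hU.prop
  have hUb : U ≠ ⊥ := by
    rintro rfl
    exact hu1 (mem_bot.1 huU)
  have hNi := normalizer_inv hUi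
  have hNt : normalizer (U : Set G) ≠ ⊤ := by
    intro h1
    have h2 : U.Normal := normalizer_eq_top_iff.1 h1
    have := h.sim
    rcases h2.eq_bot_or_eq_top with h3 | h3
    · exact hUb h3
    · rw [h3] at hUq
      exact not_pgroup h (hUq.of_equiv topEquiv)
  have hNs := solvable_of_inv h hodd hNt hNi
  set N := normalizer (U : Set G) with hN
  have hUN : U ≤ N := le_normalizer
  have hVn : (U.subgroupOf N).Normal := by
    rw [hN]
    exact normal_in_normalizer
  set V : Subgroup ↥N := U.subgroupOf N with hV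
  set β := resA α N hNi with hβ
  have hVi : ∀ m ∈ V, β m ∈ V := by
    intro m hm
    rw [hV, mem_subgroupOf] at hm ⊢
    exact hUi _ hm
  -- the order of the automorphism of `N/U`
  have hord : ¬ q ∣ orderOf (quoA β V hVi) := by
    intro hd
    apply hzq
    refine hd.trans ?_
    apply orderOf_dvd_of_pow_eq_one
    ext w
    obtain ⟨m, rfl⟩ := QuotientGroup.mk_surjective w
    rw [quoA_pow_mk, MulAut.one_apply]
    -- `α ^ n = conj (u ^ n)`
    have h1 : α ^ orderOf z = MulAut.conj (u ^ orderOf z) := by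
      have h2 : Commute z (MulAut.conj u) := Cfg.comm_zpowers hz hu
      rw [hα, h2.mul_pow, pow_orderOf_eq_one, one_mul, map_pow]
    have h2 : (((β ^ orderOf z) m : ↥N) : G) = u ^ orderOf z * m * (u ^ orderOf z)⁻¹ := by
      rw [hβ, resA_pow_coe, h1]
      rfl
    rw [eq_comm, QuotientGroup.eq, hV, mem_subgroupOf, coe_mul, coe_inv, h2]
    have h3 : u ^ orderOf z ∈ U := pow_mem huU _
    have h4 : (m : G)⁻¹ * u ^ orderOf z * m ∈ U := by
      have h5 := (mem_normalizer_iff''.1 m.2 (u ^ orderOf z)).1 h3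
      exact h5
    have h5 := mul_mem h4 (inv_mem h3)
    have e : (m : G)⁻¹ * (u ^ orderOf z * m * (u ^ orderOf z)⁻¹) = (m : G)⁻¹ * u ^ orderOf z * m * (u ^ orderOf z)⁻¹ := by
      group
    rw [e]
    exact h5
  have hd1 : Nat.card (↥N ⧸ V) ∣ Nat.card G := (card_quotient_dvd_card V).trans (card_subgroup_dvd_card N)
  have hd2 : orderOf (quoA β V hVi) ∣ orderOf α := (orderOf_quoA_dvd β V hVi).trans (orderOf_resA_dvd α N hNi)
  obtain ⟨P, hP⟩ := exists_sylow_inv2 h.zst (q := q) _ (↥N ⧸ V) (quoA β V hVi) le_rfl inferInstance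
    ((h.ccp.res N hNi).quo V hVi) hord (hnum.mono hd1 hd2)
  -- the preimage
  have h1 : IsPGroup q ↥((P : Subgroup (↥N ⧸ V)).comap (QuotientGroup.mk' V)) :=
    P.isPGroup'.comap_of_ker_isPGroup _ (by
      rw [QuotientGroup.ker_mk']
      exact hUq.comap_of_injective N.subtype N.subtype_injective)
  obtain ⟨W, hW⟩ : ∃ W : Subgroup G, W = ((P : Subgroup (↥N ⧸ V)).comap (QuotientGroup.mk' V)).map N.subtype := ⟨_, rfl⟩
  have hWU : U = W := by
    have h2 : W ∈ S := by
      refine ⟨hW ▸ h1.map _, ?_, ?_⟩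
      · rw [hW]
        refine ⟨⟨u, hUN huU⟩, ?_, rfl⟩
        have h3 : (QuotientGroup.mk' V) ⟨u, hUN huU⟩ = 1 := (QuotientGroup.eq_one_iff _).2 (mem_subgroupOf.2 huU)
        show (QuotientGroup.mk' V) ⟨u, hUN huU⟩ ∈ (P : Subgroup (↥N ⧸ V))
        rw [h3]
        exact one_mem _
      · rw [hW]
        rintro _ ⟨m, hm, rfl⟩
        refine ⟨β m, ?_, rfl⟩
        have h3 := hP _ hm
        exact h3
    refine hU.eq_of_le h2 ?_
    intro m hm
    rw [hW]
    refine ⟨⟨m, hUN hm⟩, ?_, rfl⟩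
    have h3 : (QuotientGroup.mk' V) ⟨m, hUN hm⟩ = 1 := (QuotientGroup.eq_one_iff _).2 (mem_subgroupOf.2 hm)
    show (QuotientGroup.mk' V) ⟨m, hUN hm⟩ ∈ (P : Subgroup (↥N ⧸ V))
    rw [h3]
    exact one_mem _
  have hPV : (P : Subgroup (↥N ⧸ V)).comap (QuotientGroup.mk' V) = V := by
    have h2 : V.map N.subtype = U := by rw [hV, subgroupOf_map_subtype, inf_eq_left.2 hUN]
    apply map_injective N.subtype_injective
    rw [h2, ← hW, ← hWU]
  have hidx : ¬ q ∣ Nat.card (↥N ⧸ V) := by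
    rw [← index_eq_card, ← hPV, index_comap_of_surjective _ (QuotientGroup.mk'_surjective V)]
    exact P.not_dvd_index
  -- `U` is a Sylow subgroup
  obtain ⟨k, hk⟩ := IsPGroup.iff_card.1 hUq
  have h2 : Nat.card (↥N ⧸ V) ≡ Nat.card (G ⧸ U) [MOD q] := Sylow.card_quotient_normalizer_modEq_card_quotient hk
  have h3 : ¬ q ∣ U.index := by
    intro h4
    apply hidx
    rw [index_eq_card] at h4
    exact (h2.dvd_iff dvd_rfl).2 h4
  exact ⟨hUq.toSylow h3, hUi⟩

/-- **The contradiction.** -/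
theorem false_of_sylow2 (h : Cfg α) (hodd : Odd (Nat.card (fixA α))) {q : ℕ} [hq : Fact q.Prime]
    (hnum : NumOK2 q (Nat.card G) (orderOf α)) (hqα : q ∣ orderOf α)
    (hinn : ∀ x : MulAut G, x ∈ zpowers α → (∃ k : ℕ, orderOf x = q ^ k) → ∃ u : G, x = MulAut.conj u)
    (T₀ : Sylow q G) (Y₀ : Subgroup G) (hYt : Y₀ ≠ ⊤) (hYs : ¬ Group.IsSolvable Y₀)
    (hY : ∀ β : MulAut G, (∀ m ∈ (T₀ : Subgroup G), β m ∈ (T₀ : Subgroup G)) → ∀ m ∈ Y₀, β m ∈ Y₀) : False := by
  obtain ⟨x, z, hx, hz, hα, hxs, hzs, hzα⟩ := exists_ppart α q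
  obtain ⟨u, rfl⟩ := hinn x hx hxs
  have hu1 : u ≠ 1 := by
    rintro rfl
    rw [map_one, mul_one] at hα
    rw [hα] at hqα
    exact hzs hqα
  obtain ⟨T, hT⟩ := exists_sylow2 h hodd hnum hx hz hα hxs hzs hu1
  obtain ⟨g, rfl⟩ := MulAction.exists_smul_eq G T₀ T
  -- the conjugate of `Y₀`
  have hmem : ∀ m : G, m ∈ ((g • T₀ : Sylow q G) : Subgroup G) ↔ g⁻¹ * m * g ∈ (T₀ : Subgroup G) := by
    intro m
    rw [Sylow.coe_subgroup_smul, mem_pointwise_smul_iff_inv_smul_mem, ← map_inv, MulAut.smul_def,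
      MulAut.conj_apply, inv_inv]
  let β : MulAut G := (MulAut.conj g)⁻¹ * α * MulAut.conj g
  have hβ : ∀ m, β m = g⁻¹ * α (g * m * g⁻¹) * g := by
    intro m
    show ((MulAut.conj g)⁻¹ * α * MulAut.conj g) m = _
    rw [← map_inv, MulAut.mul_apply, MulAut.mul_apply, MulAut.conj_apply, MulAut.conj_apply, inv_inv]
  have hβT : ∀ m ∈ (T₀ : Subgroup G), β m ∈ (T₀ : Subgroup G) := by
    intro m hm
    have h1 : g * m * g⁻¹ ∈ ((g • T₀ : Sylow q G) : Subgroup G) := by
      rw [hmem]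
      have e : g⁻¹ * (g * m * g⁻¹) * g = m := by group
      rwa [e]
    have h2 := hT _ h1
    rw [hmem] at h2
    rw [hβ]
    exact h2
  have hβY := hY β hβT
  let Y : Subgroup G := Y₀.map (MulAut.conj g).toMonoidHom
  have hYi : ∀ m ∈ Y, α m ∈ Y := by
    rintro _ ⟨m, hm, rfl⟩
    refine ⟨β m, hβY m hm, ?_⟩
    show g * β m * g⁻¹ = α (g * m * g⁻¹)
    rw [hβ]
    group
  have hYt' : Y ≠ ⊤ := by
    intro h1
    apply hYt
    have h2 : Nat.card Y = Nat.card Y₀ := card_map_of_injective (f := (MulAut.conj g).toMonoidHom) (MulAut.conj g).injective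
    rw [h1, card_top] at h2
    exact Subgroup.eq_top_of_card_eq _ h2.symm
  have h1 := solvable_of_inv h hodd hYt' hYi
  apply hYs
  exact Group.isSolvable_of_isSolvable_injective
    (f := (Y₀.equivMapOfInjective (MulAut.conj g).toMonoidHom (MulAut.conj g).injective).toMonoidHom)
    (MulEquiv.injective _)

/-- **The contradiction**, with the centralizer of the center of a Sylow subgroup. -/
theorem false_of_center2 (h : Cfg α) (hodd : Odd (Nat.card (fixA α))) {q : ℕ} [hq : Fact q.Prime]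
    (hnum : NumOK2 q (Nat.card G) (orderOf α)) (hqα : q ∣ orderOf α)
    (hinn : ∀ x : MulAut G, x ∈ zpowers α → (∃ k : ℕ, orderOf x = q ^ k) → ∃ u : G, x = MulAut.conj u)
    (T₀ : Sylow q G) {w : G} (hw : ∀ t ∈ (T₀ : Subgroup G), (∀ r ∈ (T₀ : Subgroup G), r * t = t * r) → t ∈ zpowers w)
    (hs : ¬ Group.IsSolvable ↥(centralizer ({w} : Set G))) : False := by
  -- `q` divides `|G|`
  have hqG : q ∣ Nat.card G := by
    obtain ⟨x, z, hx, hz, hα, hxs, hzs, hzα⟩ := exists_ppart α q
    obtain ⟨u, rfl⟩ := hinn x hx hxs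
    obtain ⟨k, hk⟩ := hxs
    have hk0 : k ≠ 0 := by
      rintro rfl
      rw [pow_zero, orderOf_eq_one_iff] at hk
      rw [hk, mul_one] at hα
      rw [hα] at hqα
      exact hzs hqα
    have h1 : orderOf (MulAut.conj u) ∣ orderOf u := orderOf_map_dvd MulAut.conj u
    rw [hk] at h1
    exact (dvd_pow_self q hk0).trans (h1.trans (orderOf_dvd_natCard u))
  let C : Subgroup G := (T₀ : Subgroup G) ⊓ centralizer ((T₀ : Subgroup G) : Set G)
  have hCw : C ≤ zpowers w := by
    rintro t ⟨ht, htc⟩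
    exact hw t ht fun r hr => mem_centralizer_iff.1 htc r hr
  refine false_of_sylow2 h hodd hnum hqα hinn T₀ (centralizer (C : Set G)) ?_ ?_ ?_
  · intro h1
    have h2 : C ≤ center G := by
      intro c hc
      rw [mem_center_iff]
      intro g
      have h3 : g ∈ centralizer (C : Set G) := by rw [h1]; trivial
      exact (mem_centralizer_iff.1 h3 c hc).symm
    rw [h.center_bot] at h2
    have h3 : Nontrivial (T₀ : Subgroup G) := by
      rw [nontrivial_iff_ne_bot]
      intro h4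
      have h5 := T₀.dvd_card_of_dvd_card hqG
      rw [h4, card_bot] at h5
      exact hq.out.one_lt.ne' (Nat.dvd_one.1 h5)
    have h4 := T₀.isPGroup'.center_nontrivial
    obtain ⟨c, hc⟩ := exists_ne (1 : center (T₀ : Subgroup G))
    apply hc
    apply Subtype.ext
    apply Subtype.ext
    have h4 : ((c : (T₀ : Subgroup G)) : G) ∈ C := by
      refine ⟨(c : (T₀ : Subgroup G)).2, mem_centralizer_iff.2 fun r hr => ?_⟩
      exact congrArg Subtype.val (mem_center_iff.1 c.2 ⟨r, hr⟩)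
    exact mem_bot.1 (h2 h4)
  · intro h1
    apply hs
    have h2 : centralizer ({w} : Set G) ≤ centralizer (C : Set G) := by
      intro g hg
      refine mem_centralizer_iff.2 fun c hc => ?_
      obtain ⟨i, hi⟩ := hCw hc
      have h3 : Commute g w := mem_centralizer_singleton_iff.1 hg
      have h4 : w ^ i = c := hi
      rw [← h4]
      exact (h3.zpow_right i).symm.eq
    exact Group.isSolvable_of_isSolvable_injective (f := inclusion h2) (inclusion_injective h2)
  · intro β hβ m hm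
    refine mem_centralizer_iff.2 fun c hc => ?_
    -- `β⁻¹ c` lies in `C`
    have h1 : β⁻¹ c ∈ C := by
      refine ⟨symm_mem_of_inv hβ hc.1, mem_centralizer_iff.2 fun r hr => ?_⟩
      have h2 := mem_centralizer_iff.1 hc.2 (β r) (hβ r hr)
      apply β.injective
      rw [map_mul, map_mul, MulAut.apply_inv_self]
      exact h2
    have h2 := congrArg β (mem_centralizer_iff.1 hm _ h1)
    rwa [map_mul, map_mul, MulAut.apply_inv_self] at h2

end two

end Cfsg.Agent.H979.Ccp
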