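import Cfsg.Agent.H979.Ccp.Sol
import Cfsg.Agent.H839.Rad.Base
import Cfsg.Agent.S0205

/-!
# Invariant Sylow subgroups in the configurations of S4114 (helper979)

Let `Cfg α` and `|C_G(α)|` odd.
* `Cfg.solvable_of_inv` : all proper `α`-invariant subgroups are solvable;
* `Cfg.exists_sylow` : if the `q`-part of `α` is a nontrivial inner automorphism and `NumOK q |G| |α|`, then `α` normalises
  a Sylow `q`-subgroup of `G`;
* `Cfg.false_of_sylow` : a contradiction, if there is a nonsolvable proper subgroup invariant under all automorphisms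
  normalising a Sylow `q`-subgroup; `Cfg.false_of_center` : the special case of the centralizer of the center;
* `Cfg.odd_fix` : `|C_G(α)|` is odd, if the radicals of the centralizers of involutions have no elements of order `p`.
-/

set_option autoImplicit false
set_option linter.unusedSectionVars false

namespace Cfsg.Agent.H979.Ccp

open Subgroup Cfsg Cfsg.Agent.H520
open scoped Pointwise

universe u

variable {G : Type u} [Group G] [Finite G] {α : MulAut G}

/-- `M/[M, α]` has odd order. -/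
theorem odd_quot (h : CCP α) (hodd : Odd (Nat.card (fixA α))) {M : Subgroup G} (hM : ∀ m ∈ M, α m ∈ M)
    (hn : (cG (resA α M hM)).Normal) : Odd (Nat.card (↥M ⧸ cG (resA α M hM))) := by
  let N : Subgroup ↥M := cG (resA α M hM)
  have hNmem : ∀ y : ↥M, y ∈ N ↔ (y : G) ∈ cM α M := by
    intro y
    rw [← map_cG_resA α M hM]
    constructor
    · intro hy
      exact ⟨y, hy, rfl⟩
    · rintro ⟨z, hz, e⟩
      have : z = y := Subtype.ext e
      rwa [← this]
  let C : Subgroup ↥M := (fixA α).subgroupOf M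
  have hsur : Function.Surjective ((QuotientGroup.mk' N).comp C.subtype) := by
    intro q
    obtain ⟨m, rfl⟩ := QuotientGroup.mk_surjective q
    obtain ⟨c, hcM, hc, hm⟩ := h.index_dvd hM m.1 m.2
    refine ⟨⟨⟨c, hcM⟩, hc⟩, ?_⟩
    show (QuotientGroup.mk (⟨c, hcM⟩ : ↥M) : ↥M ⧸ N) = QuotientGroup.mk m
    rw [QuotientGroup.eq, hNmem]
    exact hm
  have h1 : Nat.card (↥M ⧸ N) ∣ Nat.card (fixA α) := by
    refine (card_dvd_of_surjective _ hsur).trans ?_
    exact card_dvd_of_injective ((M.subtype.comp C.subtype).codRestrict (fixA α) fun y => y.2)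
      (fun a b hab => Subtype.ext (Subtype.ext (congrArg (fun z : ↥(fixA α) => (z : G)) hab)))
  exact hodd.of_dvd_nat h1

/-- **(NS)** The proper invariant subgroups are solvable. -/
theorem solvable_of_inv (h : Cfg α) (hodd : Odd (Nat.card (fixA α))) {M : Subgroup G} (hMt : M ≠ ⊤)
    (hM : ∀ m ∈ M, α m ∈ M) : Group.IsSolvable M := by
  have hn : (cG (resA α M hM)).Normal := cG_normal _
  have h1 := (solvable_cM_iff α M hM).1 (h.min M hMt hM)
  have h2 : Group.IsSolvable (↥M ⧸ cG (resA α M hM)) := S0205.result (odd_quot h.ccp hodd hM hn)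
  exact H459.Rad.isSolvable_of_quotient (cG (resA α M hM)) h1 h2

/-- `[M, z] ≤ [M, α]` for `z ∈ ⟨α⟩` -/
theorem mem_cM_of_zpowers {M : Subgroup G} (hM : ∀ m ∈ M, α m ∈ M) {z : MulAut G} (hz : z ∈ zpowers α) {g : G}
    (hg : g ∈ M) : g⁻¹ * z g ∈ cM α M := by
  obtain ⟨n, rfl⟩ := (mem_powers_iff_mem_zpowers (x := α) (y := z)).2 hz
  show g⁻¹ * (α ^ n) g ∈ cM α M
  have key : ∀ n : ℕ, (α ^ n) g ∈ M ∧ g⁻¹ * (α ^ n) g ∈ cM α M := by
    intro n
    induction n with
    | zero =>
      refine ⟨hg, ?_⟩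
      have e : g⁻¹ * (α ^ 0) g = 1 := inv_mul_cancel g
      rw [e]
      exact one_mem _
    | succ n ih =>
      have e1 : (α ^ (n + 1)) g = α ((α ^ n) g) := by rw [pow_succ', MulAut.mul_apply]
      rw [e1]
      refine ⟨hM _ ih.1, ?_⟩
      have e2 : g⁻¹ * α ((α ^ n) g) = (g⁻¹ * (α ^ n) g) * (((α ^ n) g)⁻¹ * α ((α ^ n) g)) := by group
      rw [e2]
      exact mul_mem ih.2 (mem_cM α ih.1)
  exact (key n).2

/-- An element `y ∈ M` with `conj y ∈ ⟨α⟩` lies in the solvable radical of `M`. -/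
theorem mem_rad (h : Cfg α) {M : Subgroup G} (hMt : M ≠ ⊤) (hM : ∀ m ∈ M, α m ∈ M) {y : G}
    (hy : MulAut.conj y ∈ zpowers α) (hyM : y ∈ M) : (⟨y, hyM⟩ : ↥M) ∈ solvableRadical ↥M := by
  have hn : (cG (resA α M hM)).Normal := cG_normal _
  have h1 := (solvable_cM_iff α M hM).1 (h.min M hMt hM)
  have h2 := H459.Rad.le_rad hn h1
  apply H459.Rad.mem_rad_of_commutator
  intro g
  apply h2
  have h3 := mem_cM_of_zpowers hM hy g.2
  rw [← map_cG_resA α M hM] at h3
  obtain ⟨w, hw, e⟩ := h3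
  have : w = g⁻¹ * (⟨y, hyM⟩ * g * (⟨y, hyM⟩)⁻¹) := Subtype.ext e
  rwa [← this]

/-- fixed elements have invariant centralizers -/
theorem centralizer_inv_of_fix {t : G} (ht : α t = t) : ∀ m ∈ centralizer ({t} : Set G), α m ∈ centralizer ({t} : Set G) := by
  intro m hm
  rw [mem_centralizer_singleton_iff] at hm ⊢
  have h1 := congrArg α hm
  rwa [map_mul, map_mul, ht] at h1

theorem centralizer_ne_top (h : Cfg α) {t : G} (ht : t ≠ 1) : centralizer ({t} : Set G) ≠ ⊤ := by
  intro h1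
  apply ht
  have h2 : t ∈ center G := by
    rw [mem_center_iff]
    intro g
    have h3 : g ∈ centralizer ({t} : Set G) := by rw [h1]; trivial
    exact mem_centralizer_singleton_iff.1 h3
  rwa [h.center_bot, mem_bot] at h2

/-- an element inducing an automorphism in `⟨α⟩` is fixed -/
theorem fix_of_mem (h : Cfg α) {y : G} (hy : MulAut.conj y ∈ zpowers α) : α y = y :=
  fix_of_comm h.center_bot (Cfg.comm_zpowers (mem_zpowers α) hy)

/-- **`|C_G(α)|` is odd.** -/
theorem odd_fix (h : Cfg α) {y : G} {p : ℕ} (hy : MulAut.conj y ∈ zpowers α) (hyp : orderOf y = p)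
    (hrad : ∀ t : G, orderOf t = 2 → H839.Rad.RadFree p ↥(centralizer ({t} : Set G))) : Odd (Nat.card (fixA α)) := by
  by_contra hodd
  rw [Nat.not_odd_iff_even, even_iff_two_dvd] at hodd
  have : Fact (Nat.Prime 2) := ⟨Nat.prime_two⟩
  obtain ⟨⟨t, htα⟩, ht⟩ := exists_prime_orderOf_dvd_card' 2 hodd
  have ht2 : orderOf t = 2 := by rw [← ht]; exact (Subgroup.orderOf_mk t htα).symm
  have ht1 : t ≠ 1 := by
    rintro rfl
    rw [orderOf_one] at ht2
    norm_num at ht2
  have hyt : y ∈ centralizer ({t} : Set G) := by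
    have h1 : α ∈ MulAction.stabilizer (MulAut G) t := htα
    have h2 : zpowers α ≤ MulAction.stabilizer (MulAut G) t := by rwa [zpowers_le]
    have h3 : y * t * y⁻¹ = t := h2 hy
    exact mem_centralizer_singleton_iff.2 (mul_inv_eq_iff_eq_mul.1 h3)
  refine hrad t ht2 ⟨y, hyt⟩ ?_ (mem_rad h (centralizer_ne_top h ht1) (centralizer_inv_of_fix htα) hy hyt)
  rw [Subgroup.orderOf_mk, hyp]

/-- a group with `Cfg` is not a `q`-group -/
theorem not_pgroup (h : Cfg α) {q : ℕ} [hq : Fact q.Prime] : ¬ IsPGroup q G := by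
  intro h1
  have h2 : Nontrivial G := h.sim.toNontrivial
  have h3 := h1.center_nontrivial
  rw [h.center_bot] at h3
  exact (not_subsingleton (⊥ : Subgroup G)) inferInstance

/-- the normalizer of an invariant subgroup is invariant -/
theorem normalizer_inv {U : Subgroup G} (hU : ∀ m ∈ U, α m ∈ U) :
    ∀ m ∈ normalizer (U : Set G), α m ∈ normalizer (U : Set G) := by
  intro m hm
  rw [mem_normalizer_iff] at hm ⊢
  intro g
  have h1 : α⁻¹ g ∈ U ↔ g ∈ U := by
    constructor
    · intro h2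
      have h3 := hU _ h2
      rwa [MulAut.apply_inv_self] at h3
    · exact fun h2 => symm_mem_of_inv hU h2
  rw [← h1, hm]
  constructor
  · intro h2
    have h3 := hU _ h2
    rwa [map_mul, map_mul, map_inv, MulAut.apply_inv_self] at h3
  · intro h2
    have h3 := symm_mem_of_inv hU h2
    rwa [map_mul, map_mul, map_inv α⁻¹, MulAut.inv_apply_self] at h3

/-- **`α` normalises a Sylow `q`-subgroup**, if the `q`-part of `α` is a nontrivial inner automorphism. -/
theorem exists_sylow (h : Cfg α) (hodd : Odd (Nat.card (fixA α))) {q : ℕ} [hq : Fact q.Prime]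
    (hnum : NumOK q (Nat.card G) (orderOf α)) {u : G} {z : MulAut G} (hu : MulAut.conj u ∈ zpowers α)
    (hz : z ∈ zpowers α) (hα : α = z * MulAut.conj u) (huq : ∃ k : ℕ, orderOf (MulAut.conj u) = q ^ k)
    (hzq : ¬ q ∣ orderOf z) (hu1 : u ≠ 1) :
    ∃ T : Sylow q G, ∀ m ∈ (T : Subgroup G), α m ∈ (T : Subgroup G) := by
  have hcb := h.center_bot
  have hαu := fix_of_mem h hu
  -- `u` is a `q`-element
  have hupow : ∃ k : ℕ, u ^ q ^ k = 1 := by
    obtain ⟨k, hk⟩ := huq
    refine ⟨k, ?_⟩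
    apply conj_inj hcb
    rw [map_pow, ← hk, pow_orderOf_eq_one, map_one]
  let S : Set (Subgroup G) := {U | IsPGroup q U ∧ u ∈ U ∧ ∀ m ∈ U, α m ∈ U}
  have hS : S.Nonempty := by
    refine ⟨zpowers u, ?_, mem_zpowers u, ?_⟩
    · rintro ⟨_, i, rfl⟩
      obtain ⟨k, hk⟩ := hupow
      refine ⟨k, Subtype.ext ?_⟩
      show (u ^ i) ^ q ^ k = 1
      rw [← zpow_natCast, ← zpow_mul, mul_comm, zpow_mul, zpow_natCast, hk, one_zpow]
    · rintro _ ⟨i, rfl⟩
      refine ⟨i, ?_⟩
      show u ^ i = α (u ^ i)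
      rw [map_zpow, hαu]
  obtain ⟨U, hU⟩ := (Set.toFinite S).exists_maximal hS
  obtain ⟨hUq, huU, hUi⟩ := hU.prop
  have hUb : U ≠ ⊥ := by
    rintro rfl
    exact hu1 (mem_bot.1 huU)
  have hNi := normalizer_inv hUi
  have hNt : normalizer (U : Set G) ≠ ⊤ := by
    intro h1
    have h2 : U.Normal := normalizer_eq_top_iff.1 h1
    have := h.sim
    rcases h2.eq_bot_or_eq_top with h3 | h3
    · exact hUb h3
    · rw [h3] at hUq
      exact not_pgroup h (hUq.of_equiv topEquiv)
  have hNs := solvable_of_inv h hodd hNt hNi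
  set N := normalizer (U : Set G) with hN
  have hUN : U ≤ N := le_normalizer
  have hVn : (U.subgroupOf N).Normal := by
    rw [hN]
    exact normal_in_normalizer
  set V : Subgroup ↥N := U.subgroupOf N with hV
  set β := resA α N hNi with hβ
  have hVi : ∀ m ∈ V, β m ∈ V := by
    intro m hm
    rw [hV, mem_subgroupOf] at hm ⊢
    exact hUi _ hm
  -- the order of the automorphism of `N/U`
  have hord : ¬ q ∣ orderOf (quoA β V hVi) := by
    intro hd
    apply hzq
    refine hd.trans ?_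
    apply orderOf_dvd_of_pow_eq_one
    ext w
    obtain ⟨m, rfl⟩ := QuotientGroup.mk_surjective w
    rw [quoA_pow_mk, MulAut.one_apply]
    -- `α ^ n = conj (u ^ n)`
    have h1 : α ^ orderOf z = MulAut.conj (u ^ orderOf z) := by
      have h2 : Commute z (MulAut.conj u) := Cfg.comm_zpowers hz hu
      rw [hα, h2.mul_pow, pow_orderOf_eq_one, one_mul, map_pow]
    have h2 : (((β ^ orderOf z) m : ↥N) : G) = u ^ orderOf z * m * (u ^ orderOf z)⁻¹ := by
      rw [hβ, resA_pow_coe, h1]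
      rfl
    rw [eq_comm, QuotientGroup.eq, hV, mem_subgroupOf, coe_mul, coe_inv, h2]
    have h3 : u ^ orderOf z ∈ U := pow_mem huU _
    have h4 : (m : G)⁻¹ * u ^ orderOf z * m ∈ U := by
      have h5 := (mem_normalizer_iff''.1 m.2 (u ^ orderOf z)).1 h3
      exact h5
    have h5 := mul_mem h4 (inv_mem h3)
    have e : (m : G)⁻¹ * (u ^ orderOf z * m * (u ^ orderOf z)⁻¹) = (m : G)⁻¹ * u ^ orderOf z * m * (u ^ orderOf z)⁻¹ := by
      group
    rw [e]
    exact h5
  have hd1 : Nat.card (↥N ⧸ V) ∣ Nat.card G := (card_quotient_dvd_card V).trans (card_subgroup_dvd_card N)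
  have hd2 : orderOf (quoA β V hVi) ∣ orderOf α := (orderOf_quoA_dvd β V hVi).trans (orderOf_resA_dvd α N hNi)
  obtain ⟨P, hP⟩ := exists_sylow_inv h.zst (q := q) _ (↥N ⧸ V) (quoA β V hVi) le_rfl inferInstance
    ((h.ccp.res N hNi).quo V hVi) hord (hnum.mono hd1 hd2)
  -- the preimage
  have h1 : IsPGroup q ↥((P : Subgroup (↥N ⧸ V)).comap (QuotientGroup.mk' V)) :=
    P.isPGroup'.comap_of_ker_isPGroup _ (by
      rw [QuotientGroup.ker_mk']
      exact hUq.comap_of_injective N.subtype N.subtype_injective)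
  obtain ⟨W, hW⟩ : ∃ W : Subgroup G, W = ((P : Subgroup (↥N ⧸ V)).comap (QuotientGroup.mk' V)).map N.subtype := ⟨_, rfl⟩
  have hWU : U = W := by
    have h2 : W ∈ S := by
      refine ⟨hW ▸ h1.map _, ?_, ?_⟩
      · rw [hW]
        refine ⟨⟨u, hUN huU⟩, ?_, rfl⟩
        have h3 : (QuotientGroup.mk' V) ⟨u, hUN huU⟩ = 1 := (QuotientGroup.eq_one_iff _).2 (mem_subgroupOf.2 huU)
        show (QuotientGroup.mk' V) ⟨u, hUN huU⟩ ∈ (P : Subgroup (↥N ⧸ V))
        rw [h3]
        exact one_mem _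
      · rw [hW]
        rintro _ ⟨m, hm, rfl⟩
        refine ⟨β m, ?_, rfl⟩
        have h3 := hP _ hm
        exact h3
    refine hU.eq_of_le h2 ?_
    intro m hm
    rw [hW]
    refine ⟨⟨m, hUN hm⟩, ?_, rfl⟩
    have h3 : (QuotientGroup.mk' V) ⟨m, hUN hm⟩ = 1 := (QuotientGroup.eq_one_iff _).2 (mem_subgroupOf.2 hm)
    show (QuotientGroup.mk' V) ⟨m, hUN hm⟩ ∈ (P : Subgroup (↥N ⧸ V))
    rw [h3]
    exact one_mem _
  have hPV : (P : Subgroup (↥N ⧸ V)).comap (QuotientGroup.mk' V) = V := by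
    have h2 : V.map N.subtype = U := by rw [hV, subgroupOf_map_subtype, inf_eq_left.2 hUN]
    apply map_injective N.subtype_injective
    rw [h2, ← hW, ← hWU]
  have hidx : ¬ q ∣ Nat.card (↥N ⧸ V) := by
    rw [← index_eq_card, ← hPV, index_comap_of_surjective _ (QuotientGroup.mk'_surjective V)]
    exact P.not_dvd_index
  -- `U` is a Sylow subgroup
  obtain ⟨k, hk⟩ := IsPGroup.iff_card.1 hUq
  have h2 : Nat.card (↥N ⧸ V) ≡ Nat.card (G ⧸ U) [MOD q] := Sylow.card_quotient_normalizer_modEq_card_quotient hk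
  have h3 : ¬ q ∣ U.index := by
    intro h4
    apply hidx
    rw [index_eq_card] at h4
    exact (h2.dvd_iff dvd_rfl).2 h4
  exact ⟨hUq.toSylow h3, hUi⟩

/-- **The contradiction.** -/
theorem false_of_sylow (h : Cfg α) (hodd : Odd (Nat.card (fixA α))) {q : ℕ} [hq : Fact q.Prime]
    (hnum : NumOK q (Nat.card G) (orderOf α)) (hqα : q ∣ orderOf α)
    (hinn : ∀ x : MulAut G, x ∈ zpowers α → (∃ k : ℕ, orderOf x = q ^ k) → ∃ u : G, x = MulAut.conj u)
    (T₀ : Sylow q G) (Y₀ : Subgroup G) (hYt : Y₀ ≠ ⊤) (hYs : ¬ Group.IsSolvable Y₀)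
    (hY : ∀ β : MulAut G, (∀ m ∈ (T₀ : Subgroup G), β m ∈ (T₀ : Subgroup G)) → ∀ m ∈ Y₀, β m ∈ Y₀) : False := by
  obtain ⟨x, z, hx, hz, hα, hxs, hzs, hzα⟩ := exists_ppart α q
  obtain ⟨u, rfl⟩ := hinn x hx hxs
  have hu1 : u ≠ 1 := by
    rintro rfl
    rw [map_one, mul_one] at hα
    rw [hα] at hqα
    exact hzs hqα
  obtain ⟨T, hT⟩ := exists_sylow h hodd hnum hx hz hα hxs hzs hu1
  obtain ⟨g, rfl⟩ := MulAction.exists_smul_eq G T₀ T
  -- the conjugate of `Y₀`
  have hmem : ∀ m : G, m ∈ ((g • T₀ : Sylow q G) : Subgroup G) ↔ g⁻¹ * m * g ∈ (T₀ : Subgroup G) := by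
    intro m
    rw [Sylow.coe_subgroup_smul, mem_pointwise_smul_iff_inv_smul_mem, ← map_inv, MulAut.smul_def,
      MulAut.conj_apply, inv_inv]
  let β : MulAut G := (MulAut.conj g)⁻¹ * α * MulAut.conj g
  have hβ : ∀ m, β m = g⁻¹ * α (g * m * g⁻¹) * g := by
    intro m
    show ((MulAut.conj g)⁻¹ * α * MulAut.conj g) m = _
    rw [← map_inv, MulAut.mul_apply, MulAut.mul_apply, MulAut.conj_apply, MulAut.conj_apply, inv_inv]
  have hβT : ∀ m ∈ (T₀ : Subgroup G), β m ∈ (T₀ : Subgroup G) := by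
    intro m hm
    have h1 : g * m * g⁻¹ ∈ ((g • T₀ : Sylow q G) : Subgroup G) := by
      rw [hmem]
      have e : g⁻¹ * (g * m * g⁻¹) * g = m := by group
      rwa [e]
    have h2 := hT _ h1
    rw [hmem] at h2
    rw [hβ]
    exact h2
  have hβY := hY β hβT
  let Y : Subgroup G := Y₀.map (MulAut.conj g).toMonoidHom
  have hYi : ∀ m ∈ Y, α m ∈ Y := by
    rintro _ ⟨m, hm, rfl⟩
    refine ⟨β m, hβY m hm, ?_⟩
    show g * β m * g⁻¹ = α (g * m * g⁻¹)
    rw [hβ]
    group
  have hYt' : Y ≠ ⊤ := by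
    intro h1
    apply hYt
    have h2 : Nat.card Y = Nat.card Y₀ := card_map_of_injective (f := (MulAut.conj g).toMonoidHom) (MulAut.conj g).injective
    rw [h1, card_top] at h2
    exact Subgroup.eq_top_of_card_eq _ h2.symm
  have h1 := solvable_of_inv h hodd hYt' hYi
  apply hYs
  exact Group.isSolvable_of_isSolvable_injective
    (f := (Y₀.equivMapOfInjective (MulAut.conj g).toMonoidHom (MulAut.conj g).injective).toMonoidHom)
    (MulEquiv.injective _)

/-- **The contradiction**, with the centralizer of the center of a Sylow subgroup. -/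
theorem false_of_center (h : Cfg α) (hodd : Odd (Nat.card (fixA α))) {q : ℕ} [hq : Fact q.Prime]
    (hnum : NumOK q (Nat.card G) (orderOf α)) (hqα : q ∣ orderOf α)
    (hinn : ∀ x : MulAut G, x ∈ zpowers α → (∃ k : ℕ, orderOf x = q ^ k) → ∃ u : G, x = MulAut.conj u)
    (T₀ : Sylow q G) {w : G} (hw : ∀ t ∈ (T₀ : Subgroup G), (∀ r ∈ (T₀ : Subgroup G), r * t = t * r) → t ∈ zpowers w)
    (hs : ¬ Group.IsSolvable ↥(centralizer ({w} : Set G))) : False := by
  -- `q` divides `|G|`
  have hqG : q ∣ Nat.card G := by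
    obtain ⟨x, z, hx, hz, hα, hxs, hzs, hzα⟩ := exists_ppart α q
    obtain ⟨u, rfl⟩ := hinn x hx hxs
    obtain ⟨k, hk⟩ := hxs
    have hk0 : k ≠ 0 := by
      rintro rfl
      rw [pow_zero, orderOf_eq_one_iff] at hk
      rw [hk, mul_one] at hα
      rw [hα] at hqα
      exact hzs hqα
    have h1 : orderOf (MulAut.conj u) ∣ orderOf u := orderOf_map_dvd MulAut.conj u
    rw [hk] at h1
    exact (dvd_pow_self q hk0).trans (h1.trans (orderOf_dvd_natCard u))
  let C : Subgroup G := (T₀ : Subgroup G) ⊓ centralizer ((T₀ : Subgroup G) : Set G)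
  have hCw : C ≤ zpowers w := by
    rintro t ⟨ht, htc⟩
    exact hw t ht fun r hr => mem_centralizer_iff.1 htc r hr
  refine false_of_sylow h hodd hnum hqα hinn T₀ (centralizer (C : Set G)) ?_ ?_ ?_
  · intro h1
    have h2 : C ≤ center G := by
      intro c hc
      rw [mem_center_iff]
      intro g
      have h3 : g ∈ centralizer (C : Set G) := by rw [h1]; trivial
      exact (mem_centralizer_iff.1 h3 c hc).symm
    rw [h.center_bot] at h2
    have h3 : Nontrivial (T₀ : Subgroup G) := by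
      rw [nontrivial_iff_ne_bot]
      intro h4
      have h5 := T₀.dvd_card_of_dvd_card hqG
      rw [h4, card_bot] at h5
      exact hq.out.one_lt.ne' (Nat.dvd_one.1 h5)
    have h4 := T₀.isPGroup'.center_nontrivial
    obtain ⟨c, hc⟩ := exists_ne (1 : center (T₀ : Subgroup G))
    apply hc
    apply Subtype.ext
    apply Subtype.ext
    have h4 : ((c : (T₀ : Subgroup G)) : G) ∈ C := by
      refine ⟨(c : (T₀ : Subgroup G)).2, mem_centralizer_iff.2 fun r hr => ?_⟩
      exact congrArg Subtype.val (mem_center_iff.1 c.2 ⟨r, hr⟩)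
    exact mem_bot.1 (h2 h4)
  · intro h1
    apply hs
    have h2 : centralizer ({w} : Set G) ≤ centralizer (C : Set G) := by
      intro g hg
      refine mem_centralizer_iff.2 fun c hc => ?_
      obtain ⟨i, hi⟩ := hCw hc
      have h3 : Commute g w := mem_centralizer_singleton_iff.1 hg
      have h4 : w ^ i = c := hi
      rw [← h4]
      exact (h3.zpow_right i).symm.eq
    exact Group.isSolvable_of_isSolvable_injective (f := inclusion h2) (inclusion_injective h2)
  · intro β hβ m hm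
    refine mem_centralizer_iff.2 fun c hc => ?_
    -- `β⁻¹ c` lies in `C`
    have h1 : β⁻¹ c ∈ C := by
      refine ⟨symm_mem_of_inv hβ hc.1, mem_centralizer_iff.2 fun r hr => ?_⟩
      have h2 := mem_centralizer_iff.1 hc.2 (β r) (hβ r hr)
      apply β.injective
      rw [map_mul, map_mul, MulAut.apply_inv_self]
      exact h2
    have h2 := congrArg β (mem_centralizer_iff.1 hm _ h1)
    rwa [map_mul, map_mul, MulAut.apply_inv_self] at h2

end Cfsg.Agent.H979.Ccp
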