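import Cfsg.Agent.H520.CcpCfg

/-!
# `[X, β]` for `β` of prime power order with `CCP` (helper979)

* `coprime_cG` : `CCP β`, `β` of order `p ^ k`: `[X, β]` has order prime to `p` (`Z*_p` theorem).
-/

set_option autoImplicit false

namespace Cfsg.Agent.H979.Ccp

open Subgroup Cfsg Cfsg.Agent.H520

universe u

variable {X : Type u} [Group X]

theorem conj_eq {H : Type*} [Group H] {β : MulAut X} {f : X →* H} {x : H}
    (hx : ∀ n, x * f n * x⁻¹ = f (β n)) (n : X) : f n * x * (f n)⁻¹ = f (n * (β n)⁻¹) * x := by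
  rw [map_mul, map_inv, ← hx]
  group

/-- An element inducing `β` is isolated. -/
theorem isolated_of [Finite X] {H : Type*} [Group H] {β : MulAut X} (hc : CCP β) {f : X →* H}
    (hf : Function.Injective f) {x : H} (hx : ∀ n, x * f n * x⁻¹ = f (β n))
    (hgen : ∀ g : H, ∃ (n : X) (c : H), c * x = x * c ∧ g = f n * c) : IsIsolated x := by
  intro g hg
  obtain ⟨n, c, hcx, rfl⟩ := hgen g
  have h1 : (f n * c) * x * (f n * c)⁻¹ = f (n * (β n)⁻¹) * x := by
    rw [← conj_eq hx]
    calc (f n * c) * x * (f n * c)⁻¹ = f n * (c * x) * c⁻¹ * (f n)⁻¹ := by group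
      _ = _ := by rw [hcx]; group
  rw [h1] at hg ⊢
  have h2 : f (β (n * (β n)⁻¹)) = f (n * (β n)⁻¹) := by
    rw [← hx]
    have h3 : x * (f (n * (β n)⁻¹) * x) = f (n * (β n)⁻¹) * x * x := hg
    generalize f (n * (β n)⁻¹) = y at h3
    calc x * y * x⁻¹ = x * (y * x) * x⁻¹ * x⁻¹ := by group
      _ = _ := by rw [h3]; group
  have h3 := hf h2
  have h4 : β n⁻¹ = n⁻¹ := by
    apply hc.eq_of_fix (k := 1)
    rw [one_mul, inv_one, mul_one, inv_inv, map_inv]
    exact h3
  have h5 : β n = n := by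
    rw [map_inv] at h4
    exact inv_injective h4
  rw [h5, mul_inv_cancel, map_one, one_mul]

/-- `CCP β`, `β` of order `p ^ k`: `[X, β]` has order prime to `p`. -/
theorem coprime_cG [Finite X] (hZ : ZStarT) {β : MulAut X} (hc : CCP β) {p : ℕ} [hp : Fact p.Prime]
    (hβ : ∃ k : ℕ, orderOf β = p ^ k) : (Nat.card (cG β)).Coprime p := by
  have hfin : Finite (X ⋊[(zpowers β).subtype] (zpowers β)) :=
    Finite.of_equiv _ (SemidirectProduct.equivProd (φ := (zpowers β).subtype)).symm
  obtain ⟨f, hf, hfe⟩ : ∃ f : X →* (X ⋊[(zpowers β).subtype] (zpowers β)), Function.Injective f ∧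
      f = SemidirectProduct.inl := ⟨_, SemidirectProduct.inl_injective, rfl⟩
  obtain ⟨b, hb⟩ : ∃ b : zpowers β, b = ⟨β, mem_zpowers β⟩ := ⟨_, rfl⟩
  obtain ⟨x, hxe⟩ : ∃ x : X ⋊[(zpowers β).subtype] (zpowers β), x = SemidirectProduct.inr b := ⟨_, rfl⟩
  have hxn : ∀ n : X, x * f n * x⁻¹ = f (β n) := by
    intro n
    have h1 := (SemidirectProduct.inl_aut (φ := (zpowers β).subtype) b n).symm
    rw [map_inv] at h1
    rw [hxe, hfe, h1, hb]
    rfl
  have hx : ∃ k : ℕ, orderOf x = p ^ k := by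
    obtain ⟨k, hk⟩ := hβ
    refine ⟨k, ?_⟩
    have h1 : orderOf x = orderOf b := by
      rw [hxe]
      exact orderOf_injective (SemidirectProduct.inr : zpowers β →* (X ⋊[(zpowers β).subtype] (zpowers β)))
        SemidirectProduct.inr_injective b
    rw [h1, ← hk, hb]
    exact (Subgroup.orderOf_coe _).symm
  have hiso : IsIsolated x := by
    refine isolated_of hc hf hxn fun g => ⟨g.left, SemidirectProduct.inr g.right, ?_, ?_⟩
    · rw [hxe, ← map_mul, ← map_mul]
      congr 1
      obtain ⟨j, hj⟩ := g.right.2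
      apply Subtype.ext
      show (g.right : MulAut X) * (b : MulAut X) = b * g.right
      rw [← hj, hb]
      exact ((Commute.refl β).zpow_left j).eq
    · rw [hfe]
      exact (SemidirectProduct.inl_left_mul_inr_right g).symm
  have hst := hZ.any p _ x hx hiso
  have hle : (cG β).map f ≤ pPrimeCore p (X ⋊[(zpowers β).subtype] (zpowers β)) := by
    rw [map_le_iff_le_comap, cG, closure_le]
    rintro _ ⟨n, rfl⟩
    have h1 := hst (f n⁻¹)
    show f (n⁻¹ * β n) ∈ pPrimeCore p _
    rw [conj_eq hxn, mul_inv_cancel_right, map_inv β, inv_inv] at h1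
    exact h1
  have hcard : Nat.card ↥((cG β).map f) = Nat.card ↥(cG β) := card_map_of_injective hf
  rw [← hcard]
  exact Nat.Coprime.coprime_dvd_left (card_dvd_of_le hle) (Agent.Lib.Cores.pPrimeCore_coprime p)

end Cfsg.Agent.H979.Ccp
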